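import Groth.Agent.QCoh.Qcqs

/-!
Quasi-coherence from the localisation properties on the members of one affine cover.
-/

universe u

open CategoryTheory AlgebraicGeometry TopologicalSpace Opposite Groth.Agent.QCoh

namespace Groth.Agent.GrModX

variable {X : Scheme.{u}} {M : X.Modules}

theorem isQCoh_restrict_chart {R : CommRingCat.{u}} (j : Spec R ⟶ X) [IsOpenImmersion j]
    (U : X.Opens) (hU : j ''ᵁ ⊤ = U)
    (h₁ : ∀ (f : Γ(X, U)) (s : Γ(M, X.basicOpen f)),
      ∃ (n : ℕ) (t : Γ(M, U)), M.presheaf.map (homOfLE (X.basicOpen_le f)).op t =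
        X.presheaf.map (homOfLE (X.basicOpen_le f)).op f ^ n • s)
    (h₂ : ∀ (f : Γ(X, U)) (t : Γ(M, U)),
      M.presheaf.map (homOfLE (X.basicOpen_le f)).op t = 0 → ∃ n : ℕ, f ^ n • t = 0) :
    Coh.IsQCoh (M.restrict j) := by
  subst hU
  rw [Coh.IsQCoh, isQuasicoherent_iff_isIso_fromTildeΓ, isIso_fromTildeΓ_iff_isLocalizing]
  intro r
  refine IsLocalizedModule.Away.mk_of_addCommGroup
    ((M.restrict j).isUnit_algebraMap_end_of_le_basicOpen r le_rfl) ?_ ?_
  · intro s
    have key : ∀ (W : X.Opens) (hW : X.basicOpen (chartScalar j r) = W) (hle : W ≤ j ''ᵁ ⊤)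
        (s : Γ(M, W)), ∃ (n : ℕ) (t : Γ(M, j ''ᵁ ⊤)), M.presheaf.map (homOfLE hle).op t =
          X.presheaf.map (homOfLE hle).op (chartScalar j r) ^ n • s := by
      rintro _ rfl hle s
      exact h₁ _ s
    obtain ⟨n, t, ht⟩ := key _ (basicOpen_chartScalar j r) (j.image_mono le_top)
      ((M.restrictAppIso j _).hom s)
    refine ⟨n, (M.restrictAppIso j ⊤).inv t, ?_⟩
    refine ((M.restrictAppIso j (PrimeSpectrum.basicOpen r)).addCommGroupIsoToAddEquiv.injective ?_)
    show (M.restrictAppIso j (PrimeSpectrum.basicOpen r)).hom (r ^ n • _) = _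
    erw [restrict_smul_spec j (PrimeSpectrum.basicOpen r) (r ^ n)]
    refine Eq.trans ?_ ht.symm
    simp [chartScalar, map_pow]
  · intro x hx
    have key : ∀ (W : X.Opens) (hW : X.basicOpen (chartScalar j r) = W) (hle : W ≤ j ''ᵁ ⊤)
        (t : Γ(M, j ''ᵁ ⊤)), M.presheaf.map (homOfLE hle).op t = 0 →
          ∃ n : ℕ, chartScalar j r ^ n • t = 0 := by
      rintro _ rfl hle t ht
      exact h₂ _ t ht
    obtain ⟨n, hn⟩ := key _ (basicOpen_chartScalar j r) (j.image_mono le_top)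
      ((M.restrictAppIso j ⊤).hom x) hx
    refine ⟨n, (M.restrictAppIso j ⊤).addCommGroupIsoToAddEquiv.injective ?_⟩
    show (M.restrictAppIso j ⊤).hom (r ^ n • x) = _
    erw [restrict_smul_spec j ⊤ (r ^ n), ringMap_id]
    simpa [chartScalar, map_pow] using! hn

/-- Quasi-coherence from the two localisation properties on one affine cover. -/
theorem isQCoh_of_affineCover_sections {ι : Type u} (U : ι → X.Opens) (hU : IsOpenCover U)
    (hA : ∀ i, IsAffineOpen (U i))
    (h₁ : ∀ (i : ι) (f : Γ(X, U i)) (s : Γ(M, X.basicOpen f)),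
      ∃ (n : ℕ) (t : Γ(M, U i)), M.presheaf.map (homOfLE (X.basicOpen_le f)).op t =
        X.presheaf.map (homOfLE (X.basicOpen_le f)).op f ^ n • s)
    (h₂ : ∀ (i : ι) (f : Γ(X, U i)) (t : Γ(M, U i)),
      M.presheaf.map (homOfLE (X.basicOpen_le f)).op t = 0 → ∃ n : ℕ, f ^ n • t = 0) :
    Coh.IsQCoh M :=
  isQCoh_of_isOpenCover U hU fun i =>
    (isQCoh_restrict_iff_of_iso (hA i).isoSpec.inv).1 <|
      (isQCoh_iff_iso (restrictRestrict M (hA i).isoSpec.inv (U i).ι)).2 <|
        isQCoh_restrict_chart (hA i).fromSpec (U i)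
          ((Scheme.Hom.image_top_eq_opensRange _).trans (hA i).opensRange_fromSpec) (h₁ i) (h₂ i)

end Groth.Agent.GrModX
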