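import Groth.Agent.GrModX.Sections
import Groth.Agent.GrModX.ChartQCoh

/-!
`M(n)~` is quasi-coherent.
-/

noncomputable section

universe u

open CategoryTheory AlgebraicGeometry TopologicalSpace DirectSum Opposite HomogeneousLocalization

namespace Groth.Agent.GrModX

variable {A σ : Type u} [CommRing A] [SetLike σ A] [AddSubgroupClass σ A] (𝒜 : ℕ → σ) [GradedRing 𝒜]
variable {M τ : Type u} [AddCommGroup M] [Module A M] [SetLike τ M] [AddSubgroupClass τ M] (ℳ : ℕ → τ)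

/-- The value of a section of the structure sheaf at a point. -/
abbrev oval {U : (Proj 𝒜).Opens} (c : Γ(Proj 𝒜, U)) (y : U) : GrTwist.A0 𝒜 y.1 :=
  (c : GrTwist.O (𝒜 := 𝒜) (op U)).1 y

lemma oval_res {U V : (Proj 𝒜).Opens} (i : V ⟶ U) (c : Γ(Proj 𝒜, U)) (y : V) :
    oval 𝒜 ((Proj 𝒜).presheaf.map i.op c) y = oval 𝒜 c ⟨y.1, i.le y.2⟩ := rfl

lemma oval_pow {U : (Proj 𝒜).Opens} (c : Γ(Proj 𝒜, U)) (l : ℕ) (y : U) :
    oval 𝒜 (c ^ l) y = oval 𝒜 c y ^ l := by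
  induction l with
  | zero => rw [pow_zero, pow_zero]; rfl
  | succ l ih => rw [pow_succ, pow_succ, ← ih]; rfl

lemma mem_basicOpen_iff_isUnit {U : (Proj 𝒜).Opens} (c : Γ(Proj 𝒜, U)) (y : U) :
    y.1 ∈ (Proj 𝒜).basicOpen c ↔ IsUnit (oval 𝒜 c y).val := by
  rw [Scheme.mem_basicOpen _ _ _ y.2, HomogeneousLocalization.isUnit_iff_isUnit_val]
  constructor
  · intro h
    have := h.map (Proj.stalkIso' 𝒜 y.1)
    erw [Proj.stalkIso'_germ] at this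
    exact this
  · intro h
    refine (isUnit_map_iff (Proj.stalkIso' 𝒜 y.1) _).mp ?_
    erw [Proj.stalkIso'_germ]
    exact h

lemma oval_awayToSection {f : A} {d : ℕ} (hf : f ∈ 𝒜 d) (k : ℕ) {a : A} (ha : a ∈ 𝒜 (k • d))
    (y : Proj.basicOpen 𝒜 f) :
    (oval 𝒜 (Proj.awayToSection 𝒜 f (Away.mk 𝒜 hf k a ha)) y).val =
      Localization.mk a ⟨f ^ k, pow_notMem y.1.isPrime y.2 k⟩ := rfl

lemma basicOpen_awayToSection {f : A} {d : ℕ} (hf : f ∈ 𝒜 d) (k : ℕ) {a : A} (ha : a ∈ 𝒜 (k • d)) :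
    (Proj 𝒜).basicOpen (Proj.awayToSection 𝒜 f (Away.mk 𝒜 hf k a ha)) = Proj.basicOpen 𝒜 (f * a) := by
  ext y
  constructor
  · intro hy
    have hyf : y ∈ Proj.basicOpen 𝒜 f := (Proj 𝒜).basicOpen_le _ hy
    have h := (mem_basicOpen_iff_isUnit 𝒜 _ ⟨y, hyf⟩).mp hy
    rw [oval_awayToSection, Localization.mk_eq_mk', IsLocalization.AtPrime.isUnit_mk'_iff] at h
    exact fun h' => (y.isPrime.mem_or_mem h').elim hyf h
  · intro hy
    have hyf : y ∈ Proj.basicOpen 𝒜 f := fun h => hy (y.asHomogeneousIdeal.toIdeal.mul_mem_right _ h)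
    refine (mem_basicOpen_iff_isUnit 𝒜 _ ⟨y, hyf⟩).mpr ?_
    rw [oval_awayToSection, Localization.mk_eq_mk', IsLocalization.AtPrime.isUnit_mk'_iff]
    exact fun h => hy (y.asHomogeneousIdeal.toIdeal.mul_mem_left _ h)

variable [SetLike.GradedSMul 𝒜 ℳ]

lemma val_smul {n : ℤ} {U : (Proj 𝒜).Opens} (c : Γ(Proj 𝒜, U)) (s : Γ(GrMod.tilde 𝒜 ℳ n, U)) (y : U) :
    GrMod.val (c • s) y = (oval 𝒜 c y).val • GrMod.val s y := rfl

lemma val_pow_smul {n : ℤ} {U : (Proj 𝒜).Opens} (c : Γ(Proj 𝒜, U)) (l : ℕ)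
    (s : Γ(GrMod.tilde 𝒜 ℳ n, U)) (y : U) :
    GrMod.val (c ^ l • s) y = (oval 𝒜 c y).val ^ l • GrMod.val s y := by
  rw [val_smul, oval_pow, HomogeneousLocalization.val_pow]

variable [DirectSum.Decomposition ℳ]

lemma exists_extend_section {f : A} {d : ℕ} (hd : 0 < d) (hf : f ∈ 𝒜 d) (n : ℤ) (k : ℕ) {a : A}
    (ha : a ∈ 𝒜 (k • d)) {W : (Proj 𝒜).Opens} (hW : W = Proj.basicOpen 𝒜 (f * a))
    (hle : W ≤ Proj.basicOpen 𝒜 f) (s : Γ(GrMod.tilde 𝒜 ℳ n, W)) :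
    ∃ (l : ℕ) (t : Γ(GrMod.tilde 𝒜 ℳ n, Proj.basicOpen 𝒜 f)),
      (GrMod.tilde 𝒜 ℳ n).presheaf.map (homOfLE hle).op t =
        (Proj 𝒜).presheaf.map (homOfLE hle).op (Proj.awayToSection 𝒜 f (Away.mk 𝒜 hf k a ha)) ^ l • s := by
  subst hW
  obtain ⟨l, m, hm, hs⟩ := exists_frac 𝒜 ℳ (Nat.add_pos_left hd (k • d))
    (SetLike.mul_mem_graded hf ha) n s
  refine ⟨l, fracSect 𝒜 ℳ n _ (j := (k * l + l) * d) (s := f ^ (k * l + l)) (m := m)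
    (pow_mem_deg 𝒜 hf _) (fun y => pow_notMem y.1.isPrime y.2 _)
    (hm.congr (by push_cast [smul_eq_mul]; ring)), ?_⟩
  refine ext_val 𝒜 ℳ fun y => ?_
  rw [val_res, val_fracSect, val_pow_smul, oval_res, oval_awayToSection, Localization.mk_pow, hs y,
    LocalizedModule.mk_smul_mk, LocalizedModule.mk_eq]
  refine ⟨1, ?_⟩
  simp only [one_smul, Submonoid.smul_def, Submonoid.coe_mul, SubmonoidClass.coe_pow, smul_smul]
  congr 1
  rw [← pow_mul, mul_pow]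
  ring

lemma exists_pow_smul_section {f : A} {d : ℕ} (hd : 0 < d) (hf : f ∈ 𝒜 d) (n : ℤ) (k : ℕ) {a : A}
    (ha : a ∈ 𝒜 (k • d)) {W : (Proj 𝒜).Opens} (hW : W = Proj.basicOpen 𝒜 (f * a))
    (hle : W ≤ Proj.basicOpen 𝒜 f) (t : Γ(GrMod.tilde 𝒜 ℳ n, Proj.basicOpen 𝒜 f))
    (ht : (GrMod.tilde 𝒜 ℳ n).presheaf.map (homOfLE hle).op t = 0) :
    ∃ l : ℕ, Proj.awayToSection 𝒜 f (Away.mk 𝒜 hf k a ha) ^ l • t = 0 := by
  subst hW
  obtain ⟨q, m, hm, hs⟩ := exists_frac 𝒜 ℳ hd hf n t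
  obtain ⟨N, hN⟩ := exists_pow_smul_eq_zero_of_val 𝒜 ℳ (Nat.add_pos_left hd (k • d))
    (SetLike.mul_mem_graded hf ha) hle t hm (fun y _ => ⟨_, hs y⟩) ht
  refine ⟨N, ext_val 𝒜 ℳ fun y => ?_⟩
  rw [val_pow_smul, oval_awayToSection, Localization.mk_pow, hs y, LocalizedModule.mk_smul_mk]
  refine Eq.trans ?_ (show (0 : GrMod.LocMod 𝒜 (M := M) y.1) = _ from rfl)
  refine (mk_eq_zero_iff 𝒜 y.1 _ _).mpr ⟨f ^ N, pow_notMem y.1.isPrime y.2 N, ?_⟩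
  rw [smul_smul, ← mul_pow]
  exact hN

/-- `M(n)~` is quasi-coherent. -/
theorem isQCoh_tilde (n : ℤ) : Coh.IsQCoh (GrMod.tilde 𝒜 ℳ n) := by
  classical
  let ι : Type u := {p : A × ℕ // 0 < p.2 ∧ p.1 ∈ 𝒜 p.2}
  refine isQCoh_of_affineCover_sections (fun p : ι => Proj.basicOpen 𝒜 p.1.1) ?_
    (fun p => Proj.isAffineOpen_basicOpen 𝒜 _ p.2.2 p.2.1) ?_ ?_
  · refine top_le_iff.1 fun x _ => ?_
    obtain ⟨g, hg, hgx⟩ := SetLike.not_le_iff_exists.1 x.not_irrelevant_le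
    obtain ⟨e, he⟩ : ∃ e, (decompose 𝒜 g e : A) ∉ x.asHomogeneousIdeal := by
      by_contra! hall
      exact hgx (by rw [← sum_support_decompose 𝒜 g]; exact Ideal.sum_mem _ fun i _ => hall i)
    have he0 : 0 < e := by
      rcases Nat.eq_zero_or_pos e with rfl | h
      · exact absurd (by rw [show (decompose 𝒜 g 0 : A) = 0 from hg]; exact zero_mem _) he
      · exact h
    exact Opens.mem_iSup.2 ⟨⟨(_, e), he0, SetLike.coe_mem _⟩, he⟩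
  · rintro ⟨⟨f, d⟩, hd, hf⟩ r s
    obtain ⟨q, rfl⟩ := (Proj.basicOpenIsoAway 𝒜 f hf hd).commRingCatIsoToRingEquiv.surjective r
    obtain ⟨k, a, ha, rfl⟩ := Away.mk_surjective 𝒜 hf q
    exact exists_extend_section 𝒜 ℳ hd hf n k ha (basicOpen_awayToSection 𝒜 hf k ha)
      ((Proj 𝒜).basicOpen_le _) s
  · rintro ⟨⟨f, d⟩, hd, hf⟩ r t ht
    obtain ⟨q, rfl⟩ := (Proj.basicOpenIsoAway 𝒜 f hf hd).commRingCatIsoToRingEquiv.surjective r
    obtain ⟨k, a, ha, rfl⟩ := Away.mk_surjective 𝒜 hf q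
    exact exists_pow_smul_section 𝒜 ℳ hd hf n k ha (basicOpen_awayToSection 𝒜 hf k ha)
      ((Proj 𝒜).basicOpen_le _) t ht

end Groth.Agent.GrModX
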