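import Groth.Agent.GrModX.QCohTilde
import Groth.Agent.Proj16.Graded
import Groth.Agent.QCoh.FT

/-!
Finiteness and vanishing of `M~` for modules finitely generated in high degrees.
-/

noncomputable section

universe u

open CategoryTheory CategoryTheory.Limits AlgebraicGeometry TopologicalSpace DirectSum Opposite HomogeneousLocalization

namespace Groth.Agent.GrModX

variable {A σ : Type u} [CommRing A] [SetLike σ A] [AddSubgroupClass σ A] (𝒜 : ℕ → σ) [GradedRing 𝒜]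
variable {M τ : Type u} [AddCommGroup M] [Module A M] [SetLike τ M] [AddSubgroupClass τ M] (ℳ : ℕ → τ)
variable [SetLike.GradedSMul 𝒜 ℳ] [DirectSum.Decomposition ℳ]

lemma decompose_smul_mem (c : A) {g : M} {e : ℕ} (hg : g ∈ ℳ e) (i : ℕ) :
    (decompose ℳ (c • g) i : M) = if e ≤ i then (decompose 𝒜 c (i - e) : A) • g else 0 := by
  induction c using Decomposition.inductionOn 𝒜 with
  | zero => simp
  | @homogeneous j a =>
    have h : (a : A) • g ∈ ℳ (j + e) := SetLike.GradedSMul.smul_mem a.2 hg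
    by_cases hji : j + e = i
    · subst hji
      rw [decompose_of_mem_same ℳ h, if_pos (Nat.le_add_left e j), Nat.add_sub_cancel,
        decompose_of_mem_same 𝒜 a.2]
    · rw [decompose_of_mem_ne ℳ h hji]
      split
      · rw [decompose_of_mem_ne 𝒜 a.2 (by omega), zero_smul]
      · rfl
  | add a b ha hb =>
    rw [add_smul, decompose_add, DFinsupp.add_apply, AddMemClass.coe_add, ha, hb, decompose_add,
      DFinsupp.add_apply, AddMemClass.coe_add, add_smul]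
    split <;> simp

lemma exists_homogeneous_generators (n : ℕ)
    (h : (Submodule.span A (⋃ k ∈ Set.Ici n, (ℳ k : Set M))).FG) :
    ∃ (L : ℕ) (g : Fin L → M) (e : Fin L → ℕ), (∀ j, g j ∈ ℳ (e j)) ∧
      ∀ i, n ≤ i → ∀ x ∈ ℳ i, ∃ c : Fin L → A,
        (∀ j, e j ≤ i → c j ∈ 𝒜 (i - e j)) ∧ (∀ j, ¬ e j ≤ i → c j = 0) ∧ x = ∑ j, c j • g j := by
  classical
  obtain ⟨s, hs, hspan⟩ := Submodule.fg_span_iff_fg_span_finset_subset _ |>.mp h
  have hs' : ∀ y : s, ∃ k, (y : M) ∈ ℳ k := fun y => by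
    obtain ⟨k, -, hk⟩ := Set.mem_iUnion₂.mp (hs y.2)
    exact ⟨k, hk⟩
  choose e he using hs'
  refine ⟨s.card, fun j => (s.equivFin.symm j : M), fun j => e (s.equivFin.symm j), fun j => he _,
    fun i hi x hx => ?_⟩
  have hx' : x ∈ Submodule.span A (Set.range fun j => (s.equivFin.symm j : M)) := by
    have hr : Set.range (fun j => (s.equivFin.symm j : M)) = (s : Set M) :=
      (s.equivFin.symm.surjective.range_comp (fun y : s => (y : M))).trans (by simp)
    rw [hr, ← hspan]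
    exact Submodule.subset_span (Set.mem_iUnion₂.mpr ⟨i, hi, hx⟩)
  obtain ⟨c, hc⟩ := (Submodule.mem_span_range_iff_exists_fun A).mp hx'
  refine ⟨fun j => if e (s.equivFin.symm j) ≤ i then
      (decompose 𝒜 (c j) (i - e (s.equivFin.symm j)) : A) else 0,
    fun j hj => by simp only [if_pos hj]; exact SetLike.coe_mem _, fun j hj => by simp only [if_neg hj], ?_⟩
  conv_lhs => rw [← decompose_of_mem_same ℳ hx, ← hc, decompose_sum, DirectSum.sum_apply,
    AddSubmonoidClass.coe_finsetSum]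
  refine Finset.sum_congr rfl fun j _ => ?_
  rw [decompose_smul_mem 𝒜 ℳ (c j) (he _) i]
  by_cases hj : e (s.equivFin.symm j) ≤ i
  · simp only [if_pos hj]
  · simp only [if_neg hj, zero_smul]

/-- `M~` is of finite type when `M` is finitely generated in high degrees. -/
theorem isFT_tilde (hfg : (HomogeneousIdeal.irrelevant 𝒜).toIdeal.FG) (n : ℕ)
    (h : (Submodule.span A (⋃ k ∈ Set.Ici n, (ℳ k : Set M))).FG) :
    CohB1.IsFT (GrMod.tilde 𝒜 ℳ 0) := by
  classical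
  haveI := (Proj16.irrelevant_fg_iff 𝒜).mp hfg
  obtain ⟨N, g, dg, hdg, hg, hgen⟩ := Proj16.exists_generators 𝒜
  obtain ⟨L, m, em, hm, hmgen⟩ := exists_homogeneous_generators 𝒜 ℳ n h
  let ι : Type u := {p : A × ℕ // 0 < p.2 ∧ p.1 ∈ 𝒜 p.2}
  refine QCoh.isFT_of_finite (isQCoh_tilde 𝒜 ℳ 0) (fun p : ι => Proj.basicOpen 𝒜 p.1.1) ?_
    (fun p => Proj.isAffineOpen_basicOpen 𝒜 _ p.2.2 p.2.1) ?_
  · refine top_le_iff.1 fun x _ => ?_
    obtain ⟨g, hg, hgx⟩ := SetLike.not_le_iff_exists.1 x.not_irrelevant_le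
    obtain ⟨e, he⟩ : ∃ e, (decompose 𝒜 g e : A) ∉ x.asHomogeneousIdeal := by
      by_contra! hall
      exact hgx (by rw [← sum_support_decompose 𝒜 g]; exact Ideal.sum_mem _ fun i _ => hall i)
    have he0 : 0 < e := by
      rcases Nat.eq_zero_or_pos e with rfl | h
      · exact absurd (by rw [show (decompose 𝒜 g 0 : A) = 0 from hg]; exact zero_mem _) he
      · exact h
    exact Opens.mem_iSup.2 ⟨⟨(_, e), he0, SetLike.coe_mem _⟩, he⟩
  rintro ⟨⟨f, d⟩, hd, hf⟩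
  change Module.Finite Γ(Proj 𝒜, Proj.basicOpen 𝒜 f) Γ(GrMod.tilde 𝒜 ℳ 0, Proj.basicOpen 𝒜 f)
  let gen : Fin L × (Fin N → Fin d) → Γ(GrMod.tilde 𝒜 ℳ 0, Proj.basicOpen 𝒜 f) := fun p =>
    if hdiv : d ∣ em p.1 + ∑ i, (p.2 i : ℕ) * dg i then
      fracSect 𝒜 ℳ 0 _ (j := (em p.1 + ∑ i, (p.2 i : ℕ) * dg i) / d * d)
        (pow_mem_deg 𝒜 hf ((em p.1 + ∑ i, (p.2 i : ℕ) * dg i) / d))
        (fun y => pow_notMem y.1.isPrime y.2 _)
        (m := (∏ i, g i ^ (p.2 i : ℕ)) • m p.1)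
        (((deg_of_mem (hm p.1)).smul 𝒜 (Proj16.monomial_mem hg (fun i => (p.2 i : ℕ)) rfl)).congr (by
          rw [Nat.div_mul_cancel hdiv]; push_cast; ring))
    else 0
  refine ⟨⟨Finset.univ.image gen, eq_top_iff.mpr fun sec _ => ?_⟩⟩
  rw [Finset.coe_image, Finset.coe_univ, Set.image_univ]
  obtain ⟨k₀, m₀, hm₀, hsec⟩ := exists_frac 𝒜 ℳ hd hf 0 sec
  -- raise the degree above `n`
  let k : ℕ := n + k₀
  have hk : ∀ y : Proj.basicOpen 𝒜 f, GrMod.val sec y =
      LocalizedModule.mk (f ^ n • m₀) ⟨f ^ k, pow_notMem y.1.isPrime y.2 k⟩ := fun y => by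
    rw [hsec y, LocalizedModule.mk_eq]
    refine ⟨1, ?_⟩
    simp only [one_smul, Submonoid.smul_def, smul_smul, k]
    congr 1
    rw [← pow_add, Nat.add_comm n k₀]
  obtain ⟨i, hi, hmem⟩ := ((hm₀.smul 𝒜 (pow_mem_deg 𝒜 hf n)).congr
    (show ((n * d : ℕ) : ℤ) + ((k₀ : ℤ) * d + 0) = ((k * d : ℕ) : ℤ) by simp only [k]; push_cast; ring)).exists_mem
    (Int.natCast_nonneg _)
  obtain rfl : i = k * d := Int.natCast_inj.mp hi
  obtain ⟨c, hc, hc0, hsum⟩ := hmgen (k * d)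
    ((Nat.le_add_right n k₀).trans (Nat.le_mul_of_pos_right _ hd)) _ hmem
  let P : M → Prop := fun z => ∃ t ∈ Submodule.span Γ(Proj 𝒜, Proj.basicOpen 𝒜 f) (Set.range gen),
    ∀ y : Proj.basicOpen 𝒜 f,
      GrMod.val t y = LocalizedModule.mk z ⟨f ^ k, pow_notMem y.1.isPrime y.2 k⟩
  have hP0 : P 0 := ⟨0, zero_mem _, fun y => (LocalizedModule.zero_mk _).symm⟩
  have hPadd : ∀ a b, P a → P b → P (a + b) := by
    rintro a b ⟨ta, hta, hva⟩ ⟨tb, htb, hvb⟩
    refine ⟨ta + tb, add_mem hta htb, fun y => ?_⟩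
    change GrMod.val ta y + GrMod.val tb y = _
    rw [hva y, hvb y, LocalizedModule.mk_add_mk, LocalizedModule.mk_eq]
    refine ⟨1, ?_⟩
    simp only [one_smul, Submonoid.smul_def, Submonoid.coe_mul, smul_add, smul_smul]
  suffices hP : P (f ^ n • m₀) by
    obtain ⟨t, ht, hv⟩ := hP
    rw [show sec = t from ext_val 𝒜 ℳ fun y => (hk y).trans (hv y).symm]
    exact ht
  rw [hsum]
  refine Finset.sum_induction _ P hPadd hP0 fun j _ => ?_
  by_cases hj : em j ≤ k * d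
  swap
  · rw [hc0 j hj, zero_smul]; exact hP0
  refine Proj16.induction_on_monomials hg hgen (P := fun a => P (a • m j)) (by simpa using hP0)
    (fun a b ha hb => by rw [add_smul]; exact hPadd _ _ ha hb) ?_ (hc j hj)
  intro a ha e he
  let r : Fin N → Fin d := fun i => ⟨e i % d, Nat.mod_lt _ hd⟩
  let b : ℕ := ∑ i, e i / d * dg i
  have hsplit : em j + ∑ i, (r i : ℕ) * dg i + b * d = k * d := by
    have : ∑ i, e i * dg i = (∑ i, (r i : ℕ) * dg i) + b * d := by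
      simp only [b, r, Finset.sum_mul, ← Finset.sum_add_distrib]
      refine Finset.sum_congr rfl fun i _ => ?_
      conv_lhs => rw [← Nat.mod_add_div (e i) d]
      ring
    omega
  have hdiv : d ∣ em j + ∑ i, (r i : ℕ) * dg i :=
    (Nat.dvd_add_left (dvd_mul_left d b)).mp (hsplit ▸ dvd_mul_left d k)
  have hq : (em j + ∑ i, (r i : ℕ) * dg i) / d + b = k := by
    have := congrArg (· / d) hsplit
    simpa [Nat.add_mul_div_right _ _ hd, Nat.mul_div_cancel _ hd] using this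
  have hnum : a * ∏ i, g i ^ (e i / d * d) ∈ 𝒜 (b • d) := by
    have := SetLike.mul_mem_graded ha (Proj16.monomial_mem hg (fun i => e i / d * d) rfl)
    convert this using 2
    simp only [b, smul_eq_mul, Finset.sum_mul, zero_add]
    exact Finset.sum_congr rfl fun i _ => by ring
  refine ⟨Proj.awayToSection 𝒜 f (Away.mk 𝒜 hf b _ hnum) • gen (j, r),
    Submodule.smul_mem _ _ (Submodule.subset_span ⟨_, rfl⟩), fun y => ?_⟩
  rw [val_smul, oval_awayToSection]
  simp only [gen]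
  rw [dif_pos hdiv, val_fracSect, LocalizedModule.mk_smul_mk, LocalizedModule.mk_eq]
  refine ⟨1, ?_⟩
  simp only [one_smul, Submonoid.smul_def, Submonoid.coe_mul, smul_smul]
  congr 1
  have he' : ∏ i, g i ^ e i = (∏ i, g i ^ (e i / d * d)) * ∏ i, g i ^ (r i : ℕ) := by
    rw [← Finset.prod_mul_distrib]
    refine Finset.prod_congr rfl fun i _ => ?_
    rw [← pow_add]; congr 1
    simp only [r]
    rw [mul_comm, Nat.div_add_mod]
  rw [he', ← pow_add, show b + (em j + ∑ i, (r i : ℕ) * dg i) / d = k by omega]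
  ring

variable {𝒜 ℳ}

lemma subsingleton_of_isZero {n : ℤ} (h : IsZero (GrMod.tilde 𝒜 ℳ n)) (U : (Proj 𝒜).Opens) :
    Subsingleton Γ(GrMod.tilde 𝒜 ℳ n, U) :=
  subsingleton_of_forall_eq 0 fun x => by
    have := congrArg (fun φ : GrMod.tilde 𝒜 ℳ n ⟶ GrMod.tilde 𝒜 ℳ n => φ.app U x) (h.eq_of_src (𝟙 _) 0)
    simpa using this

omit [SetLike.GradedSMul 𝒜 ℳ] [DirectSum.Decomposition ℳ] in
lemma pow_smul_eq_zero_mono {f : A} {z : M} {k k' : ℕ} (h : f ^ k • z = 0) (hle : k ≤ k') :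
    f ^ k' • z = 0 := by
  obtain ⟨r, rfl⟩ := Nat.exists_eq_add_of_le' hle
  rw [pow_add, mul_smul, h, smul_zero]

variable (𝒜 ℳ)

/-- If `M~ = 0` and `A₊` is generated in degree one, `A₊` acts locally nilpotently. -/
theorem exists_pow_smul_of_isZero
    (hgen : (HomogeneousIdeal.irrelevant 𝒜).toIdeal = Ideal.span (𝒜 1 : Set A))
    (h : IsZero (GrMod.tilde 𝒜 ℳ 0)) (z : M) {f : A} (hf : f ∈ (HomogeneousIdeal.irrelevant 𝒜).toIdeal) :
    ∃ k : ℕ, f ^ k • z = 0 := by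
  induction z using Decomposition.inductionOn ℳ with
  | zero => exact ⟨0, smul_zero _⟩
  | @homogeneous i m =>
    suffices hle : (HomogeneousIdeal.irrelevant 𝒜).toIdeal ≤ (annOf (A := A) (m : M)).radical by
      obtain ⟨k, hk⟩ := hle hf
      exact ⟨k, mem_annOf.mp hk⟩
    rw [hgen, Ideal.span_le]
    intro g hg
    have hi : g ^ i ∈ 𝒜 i := by simpa using pow_mem_deg 𝒜 hg i
    haveI := subsingleton_of_isZero h (Proj.basicOpen 𝒜 g)
    obtain ⟨N, hN⟩ := exists_pow_smul_eq_zero_of_val 𝒜 ℳ one_pos hg le_rfl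
      (fracSect 𝒜 ℳ 0 (Proj.basicOpen 𝒜 g) hi (fun y => pow_notMem y.1.isPrime y.2 i)
        ((deg_of_mem m.2).congr (add_zero _).symm))
      (deg_of_mem m.2) (fun y _ => ⟨_, rfl⟩) (Subsingleton.elim _ _)
    exact ⟨N, mem_annOf.mpr hN⟩
  | add a b ha hb =>
    obtain ⟨ka, ha⟩ := ha
    obtain ⟨kb, hb⟩ := hb
    exact ⟨ka + kb, by rw [smul_add, pow_smul_eq_zero_mono ha (by omega),
      pow_smul_eq_zero_mono hb (by omega), add_zero]⟩

/-- If `M~ = 0`, a module finitely generated in high degrees vanishes in high degrees. -/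
theorem exists_forall_eq_zero_of_isZero (hfg : (HomogeneousIdeal.irrelevant 𝒜).toIdeal.FG)
    (hgen : (HomogeneousIdeal.irrelevant 𝒜).toIdeal = Ideal.span (𝒜 1 : Set A)) (n : ℕ)
    (hTF : (Submodule.span A (⋃ k ∈ Set.Ici n, (ℳ k : Set M))).FG)
    (h : IsZero (GrMod.tilde 𝒜 ℳ 0)) : ∃ m₀ : ℕ, ∀ k, m₀ ≤ k → ∀ x ∈ ℳ k, x = 0 := by
  classical
  haveI := (Proj16.irrelevant_fg_iff 𝒜).mp hfg
  obtain ⟨L, g, e, hg, hgens⟩ := exists_homogeneous_generators 𝒜 ℳ n hTF
  have hN : ∀ j, ∃ q, (HomogeneousIdeal.irrelevant 𝒜).toIdeal ^ q ≤ annOf (A := A) (g j) := fun j =>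
    Ideal.exists_pow_le_of_le_radical_of_fg
      (fun f hf => (exists_pow_smul_of_isZero 𝒜 ℳ hgen h (g j) hf).imp fun _ hk => mem_annOf.mpr hk) hfg
  choose q hq using hN
  obtain ⟨b, hb⟩ := Proj16.exists_mem_irrelevant_pow 𝒜 (∑ j, q j)
  refine ⟨n + (b + ∑ j, e j), fun k hk x hx => ?_⟩
  obtain ⟨c, hc, -, rfl⟩ := hgens k (by omega) x hx
  refine Finset.sum_eq_zero fun j _ => ?_
  have hej : e j ≤ ∑ j, e j := Finset.single_le_sum (fun _ _ => Nat.zero_le _) (Finset.mem_univ j)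
  refine mem_annOf.mp (hq j (Ideal.pow_le_pow_right ?_ (hb (k - e j) (by omega) _ (hc j (by omega)))))
  exact Finset.single_le_sum (fun _ _ => Nat.zero_le _) (Finset.mem_univ j)

end Groth.Agent.GrModX
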