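import Groth.Agent.GrModX.Exact

/-!
Injectivity and surjectivity of `ũ` on standard opens from high degrees; vanishing of `M~`.
-/

noncomputable section

universe u

open CategoryTheory CategoryTheory.Limits AlgebraicGeometry TopologicalSpace DirectSum Opposite

namespace Groth.Agent.GrModX

variable {A σ : Type u} [CommRing A] [SetLike σ A] [AddSubgroupClass σ A] (𝒜 : ℕ → σ) [GradedRing 𝒜]
variable {M τ : Type u} [AddCommGroup M] [Module A M] [SetLike τ M] [AddSubgroupClass τ M] {ℳ : ℕ → τ}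
  [DirectSum.Decomposition ℳ]
variable {N τ' : Type u} [AddCommGroup N] [Module A N] [SetLike τ' N] [AddSubgroupClass τ' N] {𝒩 : ℕ → τ'}
  [DirectSum.Decomposition 𝒩]

/-- A point of an open of `Proj` has a standard neighbourhood inside it. -/
theorem exists_basicOpen_le {V : (Proj 𝒜).Opens} {y : ProjectiveSpectrum 𝒜} (hy : y ∈ V) :
    ∃ (f : A) (d : ℕ), 0 < d ∧ f ∈ 𝒜 d ∧ y ∈ Proj.basicOpen 𝒜 f ∧ Proj.basicOpen 𝒜 f ≤ V := by
  classical
  obtain ⟨g, hg, hgy⟩ := SetLike.not_le_iff_exists.1 y.not_irrelevant_le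
  obtain ⟨e, he⟩ : ∃ e, (decompose 𝒜 g e : A) ∉ y.asHomogeneousIdeal := by
    by_contra! hall
    exact hgy (by rw [← sum_support_decompose 𝒜 g]; exact Ideal.sum_mem _ fun i _ => hall i)
  have he0 : 0 < e := by
    rcases Nat.eq_zero_or_pos e with rfl | h
    · exact absurd (by rw [show (decompose 𝒜 g 0 : A) = 0 from hg]; exact zero_mem _) he
    · exact h
  obtain ⟨_, ⟨g₀, rfl⟩, hyg, hgV⟩ :=
    (ProjectiveSpectrum.isTopologicalBasis_basic_opens 𝒜).exists_subset_of_mem_open hy V.2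
  rw [SetLike.mem_coe, ProjectiveSpectrum.basicOpen_eq_union_of_projection, Opens.mem_iSup] at hyg
  obtain ⟨e₀, hye⟩ := hyg
  refine ⟨GradedRing.proj 𝒜 e₀ g₀ * (decompose 𝒜 g e : A), e₀ + e, Nat.add_pos_right e₀ he0,
    SetLike.mul_mem_graded (SetLike.coe_mem _) (SetLike.coe_mem _),
    fun h => (y.isPrime.mem_or_mem h).elim hye he, fun z hz => hgV ?_⟩
  rw [SetLike.mem_coe, ProjectiveSpectrum.basicOpen_eq_union_of_projection, Opens.mem_iSup]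
  exact ⟨e₀, fun h => hz (z.asHomogeneousIdeal.toIdeal.mul_mem_right _ h)⟩

variable [SetLike.GradedSMul 𝒜 ℳ]

/-- `M~ = 0` if homogeneous elements of positive degree act locally nilpotently. -/
theorem isZero_tilde_of_nilpotent (n : ℤ)
    (h : ∀ (z : M) (d : ℕ) (f : A), 0 < d → f ∈ 𝒜 d → ∃ k : ℕ, f ^ k • z = 0) :
    IsZero (GrMod.tilde 𝒜 ℳ n) := by
  have key : ∀ (x : ProjectiveSpectrum 𝒜) (q : GrMod.LocMod 𝒜 (M := M) x), q = 0 := by
    intro x q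
    obtain ⟨⟨z, s⟩, rfl⟩ := Quotient.exists_rep q
    obtain ⟨f, d, hd, hf, hfx, -⟩ := exists_basicOpen_le 𝒜 (V := ⊤) (y := x) trivial
    obtain ⟨k, hk⟩ := h z d f hd hf
    exact (mk_eq_zero_iff 𝒜 x z s).mpr ⟨f ^ k, pow_notMem x.isPrime hfx k, hk⟩
  rw [IsZero.iff_id_eq_zero]
  refine Scheme.Modules.hom_ext _ _ fun U => ?_
  ext s
  exact ext_val 𝒜 ℳ fun y => (key y.1 _).trans (key y.1 _).symm

/-- `M~ = 0` if `M` vanishes in high degrees. -/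
theorem isZero_tilde_of_eventually_zero (n : ℤ) (n₀ : ℕ) (h : ∀ k, n₀ ≤ k → ∀ m ∈ ℳ k, m = 0) :
    IsZero (GrMod.tilde 𝒜 ℳ n) := by
  refine isZero_tilde_of_nilpotent 𝒜 n fun z d f hd hf => ⟨n₀, ?_⟩
  induction z using Decomposition.inductionOn ℳ with
  | zero => exact smul_zero _
  | @homogeneous i m =>
    exact h (n₀ * d + i) ((Nat.le_mul_of_pos_right n₀ hd).trans (Nat.le_add_right _ _)) _
      (SetLike.GradedSMul.smul_mem (pow_mem_deg 𝒜 hf n₀) m.2)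
  | add a b ha hb => rw [smul_add, ha, hb, add_zero]

variable [SetLike.GradedSMul 𝒜 𝒩]

theorem map_app_injective (u : M →ₗ[A] N) (hu : ∀ (i : ℕ) (m : M), m ∈ ℳ i → u m ∈ 𝒩 i) (n₀ : ℕ)
    (hinj : ∀ k, n₀ ≤ k → ∀ m ∈ ℳ k, u m = 0 → m = 0) (n : ℤ)
    {d : ℕ} (hd : 0 < d) {f : A} (hf : f ∈ 𝒜 d) :
    Function.Injective ((GrMod.map 𝒜 u hu n).app (Proj.basicOpen 𝒜 f)) := by
  rw [injective_iff_map_eq_zero]
  intro w hw
  obtain ⟨k, m, hm, hval⟩ := exists_frac 𝒜 ℳ hd hf n w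
  obtain ⟨K, hK⟩ := exists_pow_smul_eq_zero_of_mk 𝒜 hd hf (hm.map u hu) fun x hx => by
    refine ⟨⟨f ^ k, pow_notMem x.isPrime hx k⟩, ?_⟩
    rw [← GrMod.locMap_mk, ← hval ⟨x, hx⟩]
    refine (GrMod.map_app_val u hu n _ w ⟨x, hx⟩).symm.trans ?_
    rw [hw]
    rfl
  rw [← map_smul] at hK
  have hz : f ^ (K + n₀) • m = 0 := by
    have hu0 : u (f ^ (K + n₀) • m) = 0 := by
      rw [pow_add, mul_comm, mul_smul, map_smul u (f ^ n₀), hK, smul_zero]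
    rcases hm.smul 𝒜 (pow_mem_deg 𝒜 hf (K + n₀)) with h0 | ⟨i, hi, hmem⟩
    · exact h0
    · rcases hm with rfl | ⟨i', hi', hm'⟩
      · exact smul_zero _
      · refine hinj i ?_ _ hmem hu0
        have h1 : n₀ ≤ (K + n₀) * d := (Nat.le_add_left n₀ K).trans (Nat.le_mul_of_pos_right _ hd)
        omega
  refine ext_val 𝒜 ℳ fun y => ?_
  refine (hval y).trans ((mk_eq_zero_iff 𝒜 y.1 _ _).mpr ⟨_, pow_notMem y.1.isPrime y.2 _, hz⟩)

theorem map_app_surjective (u : M →ₗ[A] N) (hu : ∀ (i : ℕ) (m : M), m ∈ ℳ i → u m ∈ 𝒩 i) (n₀ : ℕ)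
    (hsurj : ∀ k, n₀ ≤ k → ∀ m' ∈ 𝒩 k, ∃ m ∈ ℳ k, u m = m') (n : ℤ)
    {d : ℕ} (hd : 0 < d) {f : A} (hf : f ∈ 𝒜 d) :
    Function.Surjective ((GrMod.map 𝒜 u hu n).app (Proj.basicOpen 𝒜 f)) := by
  intro w
  obtain ⟨k, m, hm, hval⟩ := exists_frac 𝒜 𝒩 hd hf n w
  let q : ℕ := n₀ + n.natAbs
  obtain ⟨i, hi, hmem⟩ := (hm.smul 𝒜 (pow_mem_deg 𝒜 hf q)).exists_mem (by
    have h1 : q ≤ q * d := Nat.le_mul_of_pos_right _ hd
    have h3 : (0 : ℤ) ≤ (k : ℤ) * d := by positivity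
    simp only [q] at h1 ⊢
    omega)
  have hin : n₀ ≤ i := by
    have h1 : q ≤ q * d := Nat.le_mul_of_pos_right _ hd
    have h3 : (0 : ℤ) ≤ (k : ℤ) * d := by positivity
    simp only [q] at h1 hi
    omega
  obtain ⟨m', hm', hum⟩ := hsurj i hin _ hmem
  refine ⟨fracSect 𝒜 ℳ n _ (j := (q + k) * d) (pow_mem_deg 𝒜 hf (q + k))
    (fun y => pow_notMem y.1.isPrime y.2 _) ((deg_of_mem hm').congr (by rw [hi]; push_cast; ring)), ?_⟩
  refine ext_val 𝒜 𝒩 fun y => ?_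
  rw [GrMod.map_app_val, val_fracSect, GrMod.locMap_mk, hval y, hum, LocalizedModule.mk_eq]
  refine ⟨1, ?_⟩
  simp only [one_smul, Submonoid.smul_def, smul_smul]
  congr 1
  rw [← pow_add, Nat.add_comm k q]

end Groth.Agent.GrModX
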