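import Groth.Prelude.Def_GrMod3
import Mathlib.RingTheory.GradedAlgebra.Radical
import Mathlib.Algebra.DirectSum.Decomposition

/-!
Homogeneous annihilators and vanishing of fractions in the localizations of a graded module.
-/

noncomputable section

universe u

open AlgebraicGeometry TopologicalSpace DirectSum

namespace Groth.Agent.GrModX

variable {A σ : Type u} [CommRing A] [SetLike σ A] [AddSubgroupClass σ A] (𝒜 : ℕ → σ) [GradedRing 𝒜]
variable {M τ : Type u} [AddCommGroup M] [Module A M] [SetLike τ M] [AddSubgroupClass τ M] (ℳ : ℕ → τ)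

/-- Homogeneous of integral degree `z` (nonexistent degrees contain only zero). -/
def Deg (z : ℤ) (m : M) : Prop := m = 0 ∨ ∃ i : ℕ, (i : ℤ) = z ∧ m ∈ ℳ i

variable {ℳ}

lemma Deg.zero (z : ℤ) : Deg ℳ z (0 : M) := Or.inl rfl

lemma deg_of_mem {i : ℕ} {m : M} (h : m ∈ ℳ i) : Deg ℳ (i : ℤ) m := Or.inr ⟨i, rfl, h⟩

lemma Deg.add {z : ℤ} {m m' : M} (h : Deg ℳ z m) (h' : Deg ℳ z m') : Deg ℳ z (m + m') := by
  rcases h with rfl | ⟨i, hi, hm⟩
  · rwa [zero_add]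
  rcases h' with rfl | ⟨j, hj, hm'⟩
  · rw [add_zero]; exact Or.inr ⟨i, hi, hm⟩
  obtain rfl : i = j := Int.natCast_inj.mp (hi.trans hj.symm)
  exact Or.inr ⟨i, hi, add_mem hm hm'⟩

lemma Deg.neg {z : ℤ} {m : M} (h : Deg ℳ z m) : Deg ℳ z (-m) := by
  rcases h with rfl | ⟨i, hi, hm⟩
  · exact Or.inl neg_zero
  · exact Or.inr ⟨i, hi, neg_mem hm⟩

lemma Deg.sub {z : ℤ} {m m' : M} (h : Deg ℳ z m) (h' : Deg ℳ z m') : Deg ℳ z (m - m') := by
  rw [sub_eq_add_neg]; exact h.add h'.neg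

lemma Deg.sum {ι : Type*} (s : Finset ι) {z : ℤ} (m : ι → M) (h : ∀ i ∈ s, Deg ℳ z (m i)) :
    Deg ℳ z (∑ i ∈ s, m i) :=
  Finset.sum_induction m (Deg ℳ z) (fun _ _ ha hb => ha.add hb) (Deg.zero z) h

lemma Deg.congr {z z' : ℤ} {m : M} (e : z = z') (h : Deg ℳ z m) : Deg ℳ z' m := e ▸ h

lemma Deg.exists_mem {z : ℤ} {m : M} (h : Deg ℳ z m) (hz : 0 ≤ z) :
    ∃ i : ℕ, (i : ℤ) = z ∧ m ∈ ℳ i := by
  rcases h with rfl | h
  · exact ⟨z.toNat, Int.toNat_of_nonneg hz, zero_mem _⟩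
  · exact h

variable [SetLike.GradedSMul 𝒜 ℳ]

lemma Deg.smul {j : ℕ} {a : A} (ha : a ∈ 𝒜 j) {z : ℤ} {m : M} (h : Deg ℳ z m) :
    Deg ℳ (j + z) (a • m) := by
  rcases h with rfl | ⟨i, hi, hm⟩
  · exact Or.inl (smul_zero a)
  · exact Or.inr ⟨j + i, by push_cast; omega, SetLike.GradedSMul.smul_mem ha hm⟩

variable [DirectSum.Decomposition ℳ]

lemma proj_smul_eq_zero {i : ℕ} {m : M} (hm : m ∈ ℳ i) {c : A} (hc : c • m = 0) (d : ℕ) :
    GradedRing.proj 𝒜 d c • m = 0 := by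
  classical
  have hsum : c = ∑ k ∈ (decompose 𝒜 c).support, (decompose 𝒜 c k : A) :=
    (sum_support_decompose 𝒜 c).symm
  by_cases hd : d ∈ (decompose 𝒜 c).support
  · have h : decompose ℳ (c • m) = 0 := by rw [hc, decompose_zero]
    rw [hsum, Finset.sum_smul, decompose_sum] at h
    have h2 := congrArg (fun x : ⨁ k, ℳ k => ((x (d + i) : ℳ (d + i)) : M)) h
    simp only [DirectSum.sum_apply, DirectSum.zero_apply, ZeroMemClass.coe_zero] at h2
    rw [AddSubmonoidClass.coe_finsetSum, Finset.sum_eq_single d] at h2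
    · have hk := SetLike.GradedSMul.smul_mem (decompose 𝒜 c d).2 hm
      rw [vadd_eq_add] at hk
      rw [decompose_of_mem_same ℳ hk] at h2
      exact h2
    · intro k _ hkd
      have hk := SetLike.GradedSMul.smul_mem (decompose 𝒜 c k).2 hm
      rw [vadd_eq_add] at hk
      exact decompose_of_mem_ne ℳ hk (by omega)
    · intro h'; exact absurd hd h'
  · have : GradedRing.proj 𝒜 d c = 0 := by
      rw [GradedRing.proj_apply, DFinsupp.notMem_support_iff.mp hd]; rfl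
    rw [this, zero_smul]

lemma Deg.proj_smul_eq_zero {z : ℤ} {m : M} (hm : Deg ℳ z m) {c : A} (hc : c • m = 0) (d : ℕ) :
    GradedRing.proj 𝒜 d c • m = 0 := by
  rcases hm with rfl | ⟨i, -, hi⟩
  · exact smul_zero _
  · exact GrModX.proj_smul_eq_zero 𝒜 hi hc d

/-- The annihilator of a homogeneous element. -/
def annOf (m : M) : Ideal A := LinearMap.ker (LinearMap.toSpanSingleton A M m)

omit [SetLike τ M] [AddSubgroupClass τ M] [SetLike.GradedSMul 𝒜 ℳ] [DirectSum.Decomposition ℳ] in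
lemma mem_annOf {m : M} {c : A} : c ∈ annOf m ↔ c • m = 0 := LinearMap.mem_ker

lemma isHomogeneous_annOf {z : ℤ} {m : M} (hm : Deg ℳ z m) : (annOf (A := A) m).IsHomogeneous 𝒜 := by
  intro d c hc
  have := hm.proj_smul_eq_zero 𝒜 (mem_annOf.mp hc) d
  rw [GradedRing.proj_apply] at this
  exact mem_annOf.mpr this

omit [SetLike.GradedSMul 𝒜 ℳ] [DirectSum.Decomposition ℳ] in
/-- A homogeneous ideal contained in no point of `D(g)` has `g` in its radical. -/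
lemma mem_radical_of_forall {I : Ideal A} (hI : I.IsHomogeneous 𝒜) {g : A} {e : ℕ} (he : 0 < e)
    (hg : g ∈ 𝒜 e)
    (h : ∀ x : ProjectiveSpectrum 𝒜, g ∉ x.asHomogeneousIdeal → ∃ c ∈ I, c ∉ x.asHomogeneousIdeal) :
    g ∈ I.radical := by
  rw [hI.radical_eq, Submodule.mem_sInf]
  rintro P ⟨hP, hIP, hPp⟩
  by_contra hgP
  let x : ProjectiveSpectrum 𝒜 := ⟨⟨P, hP⟩, hPp, fun hle =>
    hgP (hle (HomogeneousIdeal.mem_irrelevant_of_mem 𝒜 he hg))⟩
  obtain ⟨c, hcI, hc⟩ := h x hgP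
  exact hc (hIP hcI)

omit [AddSubgroupClass τ M] [SetLike τ M] [SetLike.GradedSMul 𝒜 ℳ] [DirectSum.Decomposition ℳ] in
lemma mk_eq_zero_iff (x : ProjectiveSpectrum 𝒜) (m : M) (s : x.asHomogeneousIdeal.toIdeal.primeCompl) :
    (LocalizedModule.mk m s : GrMod.LocMod 𝒜 (M := M) x) = 0 ↔
      ∃ c : A, c ∉ x.asHomogeneousIdeal ∧ c • m = 0 := by
  rw [← LocalizedModule.zero_mk 1, LocalizedModule.mk_eq]
  constructor
  · rintro ⟨u, hu⟩
    refine ⟨u.1, u.2, ?_⟩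
    simpa [Submonoid.smul_def] using hu
  · rintro ⟨c, hc, hcm⟩
    refine ⟨⟨c, hc⟩, ?_⟩
    simpa [Submonoid.smul_def] using hcm

/-- A homogeneous element vanishing at every point of `D(f)` is killed by a power of `f`. -/
lemma exists_pow_smul_eq_zero {f : A} {d : ℕ} (hd : 0 < d) (hf : f ∈ 𝒜 d) {z : ℤ} {m : M}
    (hm : Deg ℳ z m)
    (h : ∀ x : ProjectiveSpectrum 𝒜, f ∉ x.asHomogeneousIdeal →
      ∃ c : A, c ∉ x.asHomogeneousIdeal ∧ c • m = 0) :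
    ∃ N : ℕ, f ^ N • m = 0 := by
  obtain ⟨N, hN⟩ := mem_radical_of_forall 𝒜 (isHomogeneous_annOf 𝒜 hm) hd hf fun x hx =>
    let ⟨c, hc, hcm⟩ := h x hx
    ⟨c, mem_annOf.mpr hcm, hc⟩
  exact ⟨N, mem_annOf.mp hN⟩

lemma exists_pow_smul_eq_zero_of_mk {f : A} {d : ℕ} (hd : 0 < d) (hf : f ∈ 𝒜 d) {z : ℤ} {m : M}
    (hm : Deg ℳ z m)
    (h : ∀ (x : ProjectiveSpectrum 𝒜), f ∉ x.asHomogeneousIdeal →
      ∃ s : x.asHomogeneousIdeal.toIdeal.primeCompl,
        (LocalizedModule.mk m s : GrMod.LocMod 𝒜 (M := M) x) = 0) :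
    ∃ N : ℕ, f ^ N • m = 0 :=
  exists_pow_smul_eq_zero 𝒜 hd hf hm fun x hx =>
    let ⟨s, hs⟩ := h x hx
    (mk_eq_zero_iff 𝒜 x m s).mp hs

end Groth.Agent.GrModX
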