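import Groth.Prelude.Def_RelProj3
import Groth.Agent.GrModX.MapProps
import Groth.Agent.RelTildeX.SheafCrit

/-!
Functoriality of `M(n)~` along a bijective semilinear map.
-/

noncomputable section

universe u

open CategoryTheory CategoryTheory.Limits AlgebraicGeometry TopologicalSpace DirectSum Opposite Groth.Agent.QCoh
open scoped HomogeneousIdeal

namespace Groth.Agent.GrModX

variable {A σ : Type u} [CommRing A] [SetLike σ A] [AddSubgroupClass σ A] {𝒜 : ℕ → σ} [GradedRing 𝒜]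
  {B σ' : Type u} [CommRing B] [SetLike σ' B] [AddSubgroupClass σ' B] {ℬ : ℕ → σ'} [GradedRing ℬ]
  {M τ : Type u} [AddCommGroup M] [Module A M] [SetLike τ M] [AddSubgroupClass τ M] {ℳ : ℕ → τ}
  [SetLike.GradedSMul 𝒜 ℳ] [DirectSum.Decomposition ℳ]
  {N τ' : Type u} [AddCommGroup N] [Module B N] [SetLike τ' N] [AddSubgroupClass τ' N] {𝒩 : ℕ → τ'}
  [SetLike.GradedSMul ℬ 𝒩] [DirectSum.Decomposition 𝒩]
  (ψ : 𝒜 →+*ᵍ ℬ) (hψ : ℬ₊ ≤ (𝒜₊).map ψ)
  (v : M →ₛₗ[ψ.toRingHom] N) (hv : ∀ (i : ℕ) (m : M), m ∈ ℳ i → v m ∈ 𝒩 i)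

include hv in
lemma deg_of_deg_map (hbij : Function.Bijective v) {z : ℤ} {m : M} (hm : Deg 𝒩 z (v m)) : Deg ℳ z m := by
  classical
  rcases hm with h0 | ⟨i, hi, hmem⟩
  · exact Or.inl (hbij.1 (h0.trans (map_zero v).symm))
  · refine Or.inr ⟨i, hi, ?_⟩
    suffices h : m = (decompose ℳ m i : M) from h ▸ SetLike.coe_mem _
    refine hbij.1 ?_
    clear hbij hi
    have key : ∀ z : M, (decompose 𝒩 (v z) i : N) = v (decompose ℳ z i : M) := by
      intro z
      induction z using Decomposition.inductionOn ℳ with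
      | zero => simp
      | @homogeneous j x =>
        rcases eq_or_ne j i with rfl | hne
        · rw [decompose_of_mem_same _ (hv j _ x.2), decompose_of_mem_same _ x.2]
        · rw [decompose_of_mem_ne _ (hv j _ x.2) hne, decompose_of_mem_ne _ x.2 hne, map_zero]
      | add a b ha hb =>
        simp only [map_add, decompose_add, DirectSum.add_apply, AddMemClass.coe_add, ha, hb]
    rw [← key, decompose_of_mem_same _ hmem]

theorem comap_app_bijective (hbij : Function.Bijective v) (n : ℤ) {d : ℕ} (hd : 0 < d) {f : A} (hf : f ∈ 𝒜 d) :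
    Function.Bijective ((GrMod.comap ψ hψ v hv n).app (Proj.basicOpen 𝒜 f)) := by
  have hψf : ψ f ∈ ℬ d := ψ.map_mem hf
  constructor
  · rw [injective_iff_map_eq_zero]
    intro w hw
    obtain ⟨k, m, hm, hval⟩ := exists_frac 𝒜 ℳ hd hf n w
    have hvm : Deg 𝒩 ((k : ℤ) * d + n) (v m) := by
      rcases hm with rfl | ⟨i, hi, hmem⟩
      · exact Or.inl (map_zero v)
      · exact Or.inr ⟨i, hi, hv i m hmem⟩
    obtain ⟨K, hK⟩ := exists_pow_smul_eq_zero_of_mk ℬ hd hψf hvm fun y hy => by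
      refine ⟨⟨ψ (f ^ k), ?_⟩, ?_⟩
      · rw [map_pow]; exact pow_notMem y.isPrime hy k
      · rw [← GrMod.locModMap_mk ψ hψ v y m ⟨f ^ k, pow_notMem (ProjectiveSpectrum.comap ψ hψ y).isPrime hy k⟩,
          ← hval ⟨ProjectiveSpectrum.comap ψ hψ y, hy⟩]
        refine (GrMod.comap_app_val ψ hψ v hv n _ w ⟨y, hy⟩).symm.trans ?_
        rw [hw]
        rfl
    have h0 : f ^ K • m = 0 := hbij.1 (by
      rw [map_zero, map_smulₛₗ]
      change ψ (f ^ K) • v m = 0
      rw [map_pow, hK])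
    refine ext_val 𝒜 ℳ fun x => ?_
    exact (hval x).trans ((mk_eq_zero_iff 𝒜 x.1 _ _).mpr ⟨_, pow_notMem x.1.isPrime x.2 K, h0⟩)
  · intro w
    obtain ⟨k, m', hm', hval⟩ := exists_frac ℬ 𝒩 hd hψf n w
    obtain ⟨m, rfl⟩ := hbij.2 m'
    refine ⟨fracSect 𝒜 ℳ n _ (j := k * d) (pow_mem_deg 𝒜 hf k) (fun y => pow_notMem y.1.isPrime y.2 k)
      ((deg_of_deg_map ψ v hv hbij hm').congr (by push_cast; ring)), ?_⟩
    refine ext_val ℬ 𝒩 fun y => ?_
    refine (GrMod.comap_app_val ψ hψ v hv n _ _ y).trans ?_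
    rw [val_fracSect, GrMod.locModMap_mk]
    refine Eq.trans ?_ (hval y).symm
    refine LocalizedModule.mk_eq.mpr ⟨1, ?_⟩
    simp only [one_smul, Submonoid.smul_def, map_pow]

theorem isIso_comap (hbij : Function.Bijective v) (n : ℤ) : IsIso (GrMod.comap ψ hψ v hv n) := by
  haveI : Mono (GrMod.comap ψ hψ v hv n) := by
    refine mono_of_app_injective _ fun U => (injective_iff_map_eq_zero _).2 fun s hs => ?_
    refine eq_zero_of_locally U s fun x hx => ?_
    obtain ⟨f, d, hd, hf, hxf, hfU⟩ := exists_basicOpen_le 𝒜 (y := x) hx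
    refine ⟨_, homOfLE hfU, hxf, (comap_app_bijective ψ hψ v hv hbij n hd hf).1 ?_⟩
    rw [map_app_comm, hs, map_zero, map_zero]
  haveI : Epi (GrMod.comap ψ hψ v hv n) := by
    refine RelTildeX.epi_of_locally _ fun U s x hx => ?_
    obtain ⟨f, d, hd, hf, hxf, hfU⟩ := exists_basicOpen_le 𝒜 (y := x) hx
    obtain ⟨t, ht⟩ := (comap_app_bijective ψ hψ v hv hbij n hd hf).2
      (((Scheme.Modules.pushforward (Proj.map ψ hψ)).obj (GrMod.tilde ℬ 𝒩 n)).presheaf.map (homOfLE hfU).op s)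
    exact ⟨_, hfU, hxf, t, ht⟩
  exact isIso_of_mono_of_epi _

end Groth.Agent.GrModX
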