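import Groth.Agent.GrModX.Sections

/-!
Exactness of `M ↦ M(n)~` on standard opens.
-/

noncomputable section

universe u

open CategoryTheory AlgebraicGeometry TopologicalSpace DirectSum Opposite

namespace Groth.Agent.GrModX

variable {A σ : Type u} [CommRing A] [SetLike σ A] [AddSubgroupClass σ A] (𝒜 : ℕ → σ) [GradedRing 𝒜]
variable {M τ : Type u} [AddCommGroup M] [Module A M] [SetLike τ M] [AddSubgroupClass τ M] {ℳ : ℕ → τ}
  [DirectSum.Decomposition ℳ]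
variable {N τ' : Type u} [AddCommGroup N] [Module A N] [SetLike τ' N] [AddSubgroupClass τ' N] {𝒩 : ℕ → τ'}
  [DirectSum.Decomposition 𝒩]

omit [AddSubgroupClass σ A] in
lemma map_decompose (u : M →ₗ[A] N) (hu : ∀ (i : ℕ) (m : M), m ∈ ℳ i → u m ∈ 𝒩 i) (m : M) (i : ℕ) :
    (decompose 𝒩 (u m) i : N) = u (decompose ℳ m i : M) := by
  induction m using Decomposition.inductionOn ℳ with
  | zero => simp
  | @homogeneous j m =>
    rcases eq_or_ne j i with rfl | hne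
    · rw [decompose_of_mem_same 𝒩 (hu j _ m.2), decompose_of_mem_same ℳ m.2]
    · rw [decompose_of_mem_ne 𝒩 (hu j _ m.2) hne, decompose_of_mem_ne ℳ m.2 hne, map_zero]
  | add a b ha hb =>
    rw [map_add, decompose_add, decompose_add, DFinsupp.add_apply, DFinsupp.add_apply,
      AddMemClass.coe_add, AddMemClass.coe_add, map_add, ha, hb]

lemma Deg.exists_preimage (u : M →ₗ[A] N) (hu : ∀ (i : ℕ) (m : M), m ∈ ℳ i → u m ∈ 𝒩 i)
    {z : ℤ} {m : M} (hm : Deg 𝒩 z (u m)) : ∃ m', Deg ℳ z m' ∧ u m' = u m := by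
  rcases hm with h0 | ⟨i, hi, hmem⟩
  · exact ⟨0, Deg.zero z, by rw [map_zero, h0]⟩
  · refine ⟨(decompose ℳ m i : M), Or.inr ⟨i, hi, SetLike.coe_mem _⟩, ?_⟩
    rw [← map_decompose u hu, decompose_of_mem_same 𝒩 hmem]

lemma Deg.map (u : M →ₗ[A] N) (hu : ∀ (i : ℕ) (m : M), m ∈ ℳ i → u m ∈ 𝒩 i)
    {z : ℤ} {m : M} (hm : Deg ℳ z m) : Deg 𝒩 z (u m) := by
  rcases hm with rfl | ⟨i, hi, hmem⟩
  · exact Or.inl (map_zero u)
  · exact Or.inr ⟨i, hi, hu i m hmem⟩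

variable [SetLike.GradedSMul 𝒜 ℳ] [SetLike.GradedSMul 𝒜 𝒩]
variable {P τ'' : Type u} [AddCommGroup P] [Module A P] [SetLike τ'' P] [AddSubgroupClass τ'' P] {𝒬 : ℕ → τ''}
  [DirectSum.Decomposition 𝒬] [SetLike.GradedSMul 𝒜 𝒬]

theorem map_app_exact (u : M →ₗ[A] N) (hu : ∀ (i : ℕ) (m : M), m ∈ ℳ i → u m ∈ 𝒩 i)
    (v : N →ₗ[A] P) (hv : ∀ (i : ℕ) (m : N), m ∈ 𝒩 i → v m ∈ 𝒬 i) (hex : Function.Exact u v) (n : ℤ)
    {d : ℕ} (hd : 0 < d) {f : A} (hf : f ∈ 𝒜 d) :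
    Function.Exact ((GrMod.map 𝒜 u hu n).app (Proj.basicOpen 𝒜 f))
      ((GrMod.map 𝒜 v hv n).app (Proj.basicOpen 𝒜 f)) := by
  intro w
  constructor
  · intro hw
    obtain ⟨k, m, hm, hval⟩ := exists_frac 𝒜 𝒩 hd hf n w
    obtain ⟨K, hK⟩ := exists_pow_smul_eq_zero_of_mk 𝒜 hd hf (hm.map v hv) fun x hx => by
      refine ⟨⟨f ^ k, pow_notMem x.isPrime hx k⟩, ?_⟩
      rw [← GrMod.locMap_mk, ← hval ⟨x, hx⟩]
      refine (GrMod.map_app_val v hv n _ w ⟨x, hx⟩).symm.trans ?_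
      rw [hw]
      rfl
    rw [← map_smul] at hK
    obtain ⟨m₁, hm₁⟩ := (hex _).mp hK
    have hdeg : Deg 𝒩 (((k + K : ℕ) : ℤ) * d + n) (u m₁) := by
      rw [hm₁]
      exact (hm.smul 𝒜 (pow_mem_deg 𝒜 hf K)).congr (by push_cast; ring)
    obtain ⟨m', hm', hum'⟩ := Deg.exists_preimage u hu hdeg
    refine ⟨fracSect 𝒜 ℳ n _ (j := (k + K) * d) (pow_mem_deg 𝒜 hf (k + K))
      (fun y => pow_notMem y.1.isPrime y.2 _) (hm'.congr (by push_cast; ring)), ?_⟩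
    refine ext_val 𝒜 𝒩 fun y => ?_
    rw [GrMod.map_app_val, val_fracSect, GrMod.locMap_mk, hval y, hum', hm₁, LocalizedModule.mk_eq]
    refine ⟨1, ?_⟩
    simp only [one_smul, Submonoid.smul_def, smul_smul]
    rw [← pow_add]
  · rintro ⟨a, rfl⟩
    refine ext_val 𝒜 𝒬 fun y => ?_
    rw [GrMod.map_app_val, GrMod.map_app_val]
    obtain ⟨⟨m, s⟩, hms⟩ := Quotient.exists_rep (GrMod.val a y)
    rw [← hms]
    change GrMod.locMap v y.1 (GrMod.locMap u y.1 (LocalizedModule.mk m s)) = _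
    rw [GrMod.locMap_mk, GrMod.locMap_mk, hex.apply_apply_eq_zero, LocalizedModule.zero_mk]
    rfl

end Groth.Agent.GrModX
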