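import Groth.Agent.GrModX.Finite

/-!
Finiteness of the shifted modules `M(z)~`.
-/

noncomputable section

universe u

open CategoryTheory CategoryTheory.Limits AlgebraicGeometry TopologicalSpace DirectSum Opposite HomogeneousLocalization

namespace Groth.Agent.GrModX

variable {A σ : Type u} [CommRing A] [SetLike σ A] [AddSubgroupClass σ A] (𝒜 : ℕ → σ) [GradedRing 𝒜]
variable {M τ : Type u} [AddCommGroup M] [Module A M] [SetLike τ M] [AddSubgroupClass τ M] (ℳ : ℕ → τ)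
variable [SetLike.GradedSMul 𝒜 ℳ] [DirectSum.Decomposition ℳ]

/-- `M(z)~` is of finite type for every shift `z` when `M` is finitely generated in high degrees. -/
theorem isFT_tilde_shift (hfg : (HomogeneousIdeal.irrelevant 𝒜).toIdeal.FG) (z : ℤ) (n : ℕ)
    (h : (Submodule.span A (⋃ k ∈ Set.Ici n, (ℳ k : Set M))).FG) :
    CohB1.IsFT (GrMod.tilde 𝒜 ℳ z) := by
  classical
  haveI := (Proj16.irrelevant_fg_iff 𝒜).mp hfg
  obtain ⟨N, g, dg, hdg, hg, hgen⟩ := Proj16.exists_generators 𝒜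
  obtain ⟨L, m, em, hm, hmgen⟩ := exists_homogeneous_generators 𝒜 ℳ n h
  let ι : Type u := {p : A × ℕ // 0 < p.2 ∧ p.1 ∈ 𝒜 p.2}
  refine QCoh.isFT_of_finite (isQCoh_tilde 𝒜 ℳ z) (fun p : ι => Proj.basicOpen 𝒜 p.1.1) ?_
    (fun p => Proj.isAffineOpen_basicOpen 𝒜 _ p.2.2 p.2.1) ?_
  · refine top_le_iff.1 fun x _ => ?_
    obtain ⟨g, hg, hgx⟩ := SetLike.not_le_iff_exists.1 x.not_irrelevant_le
    obtain ⟨e, he⟩ : ∃ e, (decompose 𝒜 g e : A) ∉ x.asHomogeneousIdeal := by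
      by_contra! hall
      exact hgx (by rw [← sum_support_decompose 𝒜 g]; exact Ideal.sum_mem _ fun i _ => hall i)
    have he0 : 0 < e := by
      rcases Nat.eq_zero_or_pos e with rfl | h
      · exact absurd (by rw [show (decompose 𝒜 g 0 : A) = 0 from hg]; exact zero_mem _) he
      · exact h
    exact Opens.mem_iSup.2 ⟨⟨(_, e), he0, SetLike.coe_mem _⟩, he⟩
  rintro ⟨⟨f, d⟩, hd, hf⟩
  change Module.Finite Γ(Proj 𝒜, Proj.basicOpen 𝒜 f) Γ(GrMod.tilde 𝒜 ℳ z, Proj.basicOpen 𝒜 f)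
  let n₁ : ℕ := z.natAbs
  have hn₁ : z ≤ ((n₁ * d : ℕ) : ℤ) := by
    have h1 : n₁ ≤ n₁ * d := Nat.le_mul_of_pos_right _ hd
    omega
  let T : Fin L × (Fin N → Fin d) → ℕ := fun p =>
    (((n₁ * d + (em p.1 + ∑ i, (p.2 i : ℕ) * dg i) : ℕ) : ℤ) - z).toNat
  let gen : Fin L × (Fin N → Fin d) → Γ(GrMod.tilde 𝒜 ℳ z, Proj.basicOpen 𝒜 f) := fun p =>
    if hdiv : d ∣ T p then
      fracSect 𝒜 ℳ z _ (j := T p / d * d)
        (pow_mem_deg 𝒜 hf (T p / d))
        (fun y => pow_notMem y.1.isPrime y.2 _)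
        (m := f ^ n₁ • ((∏ i, g i ^ (p.2 i : ℕ)) • m p.1))
        ((((deg_of_mem (hm p.1)).smul 𝒜 (Proj16.monomial_mem hg (fun i => (p.2 i : ℕ)) rfl)).smul 𝒜
          (pow_mem_deg 𝒜 hf n₁)).congr (by
          rw [Nat.div_mul_cancel hdiv]
          simp only [T]
          push_cast
          rw [Int.toNat_of_nonneg (by
            have : (0 : ℤ) ≤ ∑ i, ((p.2 i : ℕ) : ℤ) * (dg i : ℤ) := by positivity
            push_cast at hn₁
            omega)]
          ring))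
    else 0
  refine ⟨⟨Finset.univ.image gen, eq_top_iff.mpr fun sec _ => ?_⟩⟩
  rw [Finset.coe_image, Finset.coe_univ, Set.image_univ]
  obtain ⟨k₀, m₀, hm₀, hsec⟩ := exists_frac 𝒜 ℳ hd hf z sec
  -- raise the degree above `n`
  let n₂ : ℕ := n + z.natAbs
  let k : ℕ := n₂ + k₀
  have hk : ∀ y : Proj.basicOpen 𝒜 f, GrMod.val sec y =
      LocalizedModule.mk (f ^ n₂ • m₀) ⟨f ^ k, pow_notMem y.1.isPrime y.2 k⟩ := fun y => by
    rw [hsec y, LocalizedModule.mk_eq]
    refine ⟨1, ?_⟩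
    simp only [one_smul, Submonoid.smul_def, smul_smul, k]
    congr 1
    rw [← pow_add, Nat.add_comm n₂ k₀]
  have hkd : (n + z.natAbs : ℕ) ≤ k * d :=
    (Nat.le_add_right n₂ k₀).trans (Nat.le_mul_of_pos_right _ hd)
  obtain ⟨i₀, hi₀, hmem⟩ := ((hm₀.smul 𝒜 (pow_mem_deg 𝒜 hf n₂)).congr
    (show ((n₂ * d : ℕ) : ℤ) + ((k₀ : ℤ) * d + z) = ((k * d : ℕ) : ℤ) + z by simp only [k]; push_cast; ring)).exists_mem
    (by omega)
  obtain ⟨c, hc, hc0, hsum⟩ := hmgen i₀ (by omega) _ hmem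
  let P : M → Prop := fun z => ∃ t ∈ Submodule.span Γ(Proj 𝒜, Proj.basicOpen 𝒜 f) (Set.range gen),
    ∀ y : Proj.basicOpen 𝒜 f,
      GrMod.val t y = LocalizedModule.mk z ⟨f ^ k, pow_notMem y.1.isPrime y.2 k⟩
  have hP0 : P 0 := ⟨0, zero_mem _, fun y => (LocalizedModule.zero_mk _).symm⟩
  have hPadd : ∀ a b, P a → P b → P (a + b) := by
    rintro a b ⟨ta, hta, hva⟩ ⟨tb, htb, hvb⟩
    refine ⟨ta + tb, add_mem hta htb, fun y => ?_⟩
    change GrMod.val ta y + GrMod.val tb y = _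
    rw [hva y, hvb y, LocalizedModule.mk_add_mk, LocalizedModule.mk_eq]
    refine ⟨1, ?_⟩
    simp only [one_smul, Submonoid.smul_def, Submonoid.coe_mul, smul_add, smul_smul]
  suffices hP : P (f ^ n₂ • m₀) by
    obtain ⟨t, ht, hv⟩ := hP
    rw [show sec = t from ext_val 𝒜 ℳ fun y => (hk y).trans (hv y).symm]
    exact ht
  rw [hsum]
  refine Finset.sum_induction _ P hPadd hP0 fun j _ => ?_
  by_cases hj : em j ≤ i₀
  swap
  · rw [hc0 j hj, zero_smul]; exact hP0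
  refine Proj16.induction_on_monomials hg hgen (P := fun a => P (a • m j)) (by simpa using hP0)
    (fun a b ha hb => by rw [add_smul]; exact hPadd _ _ ha hb) ?_ (hc j hj)
  intro a ha e he
  let r : Fin N → Fin d := fun i => ⟨e i % d, Nat.mod_lt _ hd⟩
  let b : ℕ := ∑ i, e i / d * dg i
  have hsplit : em j + ∑ i, (r i : ℕ) * dg i + b * d = i₀ := by
    have : ∑ i, e i * dg i = (∑ i, (r i : ℕ) * dg i) + b * d := by
      simp only [b, r, Finset.sum_mul, ← Finset.sum_add_distrib]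
      refine Finset.sum_congr rfl fun i _ => ?_
      conv_lhs => rw [← Nat.mod_add_div (e i) d]
      ring
    omega
  have hT : T (j, r) + b * d = (n₁ + k) * d := by
    simp only [T]
    rw [add_mul]
    omega
  have hdiv : d ∣ T (j, r) :=
    (Nat.dvd_add_left (dvd_mul_left d b)).mp (hT ▸ dvd_mul_left d _)
  have hq : T (j, r) / d + b = n₁ + k := by
    have := congrArg (· / d) hT
    simpa [Nat.add_mul_div_right _ _ hd, Nat.mul_div_cancel _ hd] using this
  have hnum : a * ∏ i, g i ^ (e i / d * d) ∈ 𝒜 (b • d) := by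
    have := SetLike.mul_mem_graded ha (Proj16.monomial_mem hg (fun i => e i / d * d) rfl)
    convert this using 2
    simp only [b, smul_eq_mul, Finset.sum_mul, zero_add]
    exact Finset.sum_congr rfl fun i _ => by ring
  refine ⟨Proj.awayToSection 𝒜 f (Away.mk 𝒜 hf b _ hnum) • gen (j, r),
    Submodule.smul_mem _ _ (Submodule.subset_span ⟨_, rfl⟩), fun y => ?_⟩
  rw [val_smul, oval_awayToSection]
  simp only [gen]
  rw [dif_pos hdiv, val_fracSect, LocalizedModule.mk_smul_mk, LocalizedModule.mk_eq]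
  refine ⟨1, ?_⟩
  simp only [one_smul, Submonoid.smul_def, Submonoid.coe_mul, smul_smul]
  congr 1
  have he' : ∏ i, g i ^ e i = (∏ i, g i ^ (e i / d * d)) * ∏ i, g i ^ (r i : ℕ) := by
    rw [← Finset.prod_mul_distrib]
    refine Finset.prod_congr rfl fun i _ => ?_
    rw [← pow_add]; congr 1
    simp only [r]
    rw [mul_comm, Nat.div_add_mod]
  rw [he', ← pow_add, show b + T (j, r) / d = n₁ + k by omega, pow_add]
  ring

end Groth.Agent.GrModX
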