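import Groth.Agent.GrModX.Basic
import Mathlib.AlgebraicGeometry.ProjectiveSpectrum.Basic

/-!
Sections of `M(n)~` on the standard opens of `Proj` are the fractions `m / f ^ k`.
-/

noncomputable section

universe u

open CategoryTheory AlgebraicGeometry TopologicalSpace DirectSum Opposite

namespace Groth.Agent.GrModX

variable {A σ : Type u} [CommRing A] [SetLike σ A] [AddSubgroupClass σ A] (𝒜 : ℕ → σ) [GradedRing 𝒜]
variable {M τ : Type u} [AddCommGroup M] [Module A M] [SetLike τ M] [AddSubgroupClass τ M] (ℳ : ℕ → τ)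
variable [SetLike.GradedSMul 𝒜 ℳ]

lemma pow_mem_deg {f : A} {d : ℕ} (hf : f ∈ 𝒜 d) (k : ℕ) : f ^ k ∈ 𝒜 (k * d) := by
  rw [← smul_eq_mul]; exact SetLike.pow_mem_graded k hf

omit [AddSubgroupClass σ A] [GradedRing 𝒜] in
lemma pow_notMem {f : A} {I : Ideal A} (hI : I.IsPrime) (h : f ∉ I) (k : ℕ) : f ^ k ∉ I :=
  fun h' => h (hI.mem_of_pow_mem k h')

lemma mk_mem_tildeAt (n : ℤ) (x : ProjectiveSpectrum 𝒜) {j : ℕ} {s : A} (hs : s ∈ 𝒜 j)
    (hsx : s ∉ x.asHomogeneousIdeal) {m : M} (hm : Deg ℳ (j + n) m) :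
    LocalizedModule.mk m ⟨s, hsx⟩ ∈ GrMod.tildeAt 𝒜 ℳ n x := by
  rcases hm with rfl | ⟨i, hi, hm⟩
  · rw [LocalizedModule.zero_mk]; exact zero_mem _
  · exact Submodule.subset_span ⟨i, j, ⟨m, hm⟩, ⟨s, hs⟩, hsx, hi, rfl⟩

/-- The section `m / s`. -/
def fracSect (n : ℤ) (U : (Proj 𝒜).Opens) {j : ℕ} {s : A} (hs : s ∈ 𝒜 j)
    (hU : ∀ y : U, s ∉ y.1.asHomogeneousIdeal) {m : M} (hm : Deg ℳ (j + n) m) :
    Γ(GrMod.tilde 𝒜 ℳ n, U) :=
  show GrMod.sect 𝒜 ℳ n (op U) from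
    ⟨fun y => ⟨LocalizedModule.mk m ⟨s, hU y⟩, mk_mem_tildeAt 𝒜 ℳ n y.1 hs (hU y) hm⟩, fun y => by
      rcases hm with h0 | ⟨i, hi, hm⟩
      · exact ⟨U, y.2, 𝟙 _, 0, j, ⟨0, zero_mem _⟩, ⟨s, hs⟩, hU, Or.inr rfl, fun z => by
          subst h0; rfl⟩
      · exact ⟨U, y.2, 𝟙 _, i, j, ⟨m, hm⟩, ⟨s, hs⟩, hU, Or.inl hi, fun _ => rfl⟩⟩

lemma val_fracSect (n : ℤ) (U : (Proj 𝒜).Opens) {j : ℕ} {s : A} (hs : s ∈ 𝒜 j)
    (hU : ∀ y : U, s ∉ y.1.asHomogeneousIdeal) {m : M} (hm : Deg ℳ (j + n) m) (y : U) :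
    GrMod.val (fracSect 𝒜 ℳ n U hs hU hm) y = LocalizedModule.mk m ⟨s, hU y⟩ := rfl

lemma ext_val {n : ℤ} {U : (Proj 𝒜).Opens} {s t : Γ(GrMod.tilde 𝒜 ℳ n, U)}
    (h : ∀ y : U, GrMod.val s y = GrMod.val t y) : s = t :=
  Subtype.ext (funext fun y => Subtype.ext (h y))

lemma val_res {n : ℤ} {U V : (Proj 𝒜).Opens} (i : V ⟶ U) (s : Γ(GrMod.tilde 𝒜 ℳ n, U)) (y : V) :
    GrMod.val ((GrMod.tilde 𝒜 ℳ n).presheaf.map i.op s) y = GrMod.val s ⟨y.1, i.le y.2⟩ := rfl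

variable [DirectSum.Decomposition ℳ]

/-- Near any point a section is one fraction with denominator cutting out the neighbourhood. -/
lemma exists_local_frac {f : A} {d : ℕ} (hd : 0 < d) (hf : f ∈ 𝒜 d) (n : ℤ)
    (sec : Γ(GrMod.tilde 𝒜 ℳ n, Proj.basicOpen 𝒜 f)) (x : Proj.basicOpen 𝒜 f) :
    ∃ (g : A) (e : ℕ) (m : M), 0 < e ∧ g ∈ 𝒜 e ∧ Deg ℳ ((e : ℤ) + n) m ∧
      g ∉ x.1.asHomogeneousIdeal ∧ ProjectiveSpectrum.basicOpen 𝒜 g ≤ ProjectiveSpectrum.basicOpen 𝒜 f ∧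
      ∀ (y : Proj.basicOpen 𝒜 f) (hy : g ∉ y.1.asHomogeneousIdeal),
        GrMod.val sec y = LocalizedModule.mk m ⟨g, hy⟩ := by
  classical
  obtain ⟨V, hxV, iV, i, j, ⟨m, hm⟩, ⟨t, ht⟩, hnin, hdeg, hval⟩ :=
    (sec : GrMod.sect 𝒜 ℳ n (op (Proj.basicOpen 𝒜 f))).2 x
  obtain ⟨_, ⟨g₀, rfl⟩, hxg, hgV⟩ :=
    (ProjectiveSpectrum.isTopologicalBasis_basic_opens 𝒜).exists_subset_of_mem_open hxV V.2
  rw [SetLike.mem_coe, ProjectiveSpectrum.basicOpen_eq_union_of_projection, Opens.mem_iSup] at hxg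
  obtain ⟨e₀, hxe⟩ := hxg
  let g : A := GradedRing.proj 𝒜 e₀ g₀ * f
  have hg : g ∈ 𝒜 (e₀ + d) := SetLike.mul_mem_graded (SetLike.coe_mem _) hf
  have hgf : ProjectiveSpectrum.basicOpen 𝒜 g ≤ ProjectiveSpectrum.basicOpen 𝒜 f :=
    ProjectiveSpectrum.basicOpen_mul_le_right _ _ _
  have hgx : g ∉ x.1.asHomogeneousIdeal := fun h =>
    (x.1.isPrime.mem_or_mem h).elim hxe x.2
  have hgsub : ∀ y : ProjectiveSpectrum 𝒜, g ∉ y.asHomogeneousIdeal → y ∈ V := fun y hy => by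
    refine hgV ?_
    rw [SetLike.mem_coe, ProjectiveSpectrum.basicOpen_eq_union_of_projection, Opens.mem_iSup]
    exact ⟨e₀, fun h => hy (y.asHomogeneousIdeal.toIdeal.mul_mem_right f h)⟩
  have hIt : (Ideal.span {t} : Ideal A).IsHomogeneous 𝒜 :=
    Ideal.homogeneous_span 𝒜 _ fun a ha => ⟨j, by rw [Set.mem_singleton_iff.mp ha]; exact ht⟩
  obtain ⟨N, hN⟩ := mem_radical_of_forall 𝒜 hIt (Nat.add_pos_right e₀ hd) hg
    fun y hy => ⟨t, Ideal.mem_span_singleton_self t, hnin ⟨y, hgsub y hy⟩⟩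
  obtain ⟨c, hc⟩ := Ideal.mem_span_singleton'.mp hN
  have hc' : c * g * t = g ^ (N + 1) := by rw [pow_succ, ← hc]; ring
  have hG : g ^ (N + 1) ∈ 𝒜 ((N + 1) * (e₀ + d)) := pow_mem_deg 𝒜 hg _
  set E := (N + 1) * (e₀ + d) with hE
  have hE0 : 0 < E := Nat.mul_pos N.succ_pos (Nat.add_pos_right e₀ hd)
  have hcomp : g ^ (N + 1) = (decompose 𝒜 (c * g * t) E : A) := by
    rw [hc', decompose_of_mem_same 𝒜 hG]
  have hjE : j ≤ E := by
    by_contra hlt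
    rw [coe_decompose_mul_of_right_mem_of_not_le 𝒜 ht hlt] at hcomp
    exact pow_notMem x.1.isPrime hgx (N + 1) (hcomp ▸ zero_mem _)
  rw [coe_decompose_mul_of_right_mem_of_le 𝒜 ht hjE] at hcomp
  set c' : A := (decompose 𝒜 (c * g) (E - j) : A) with hcdef
  have hc'm : c' ∈ 𝒜 (E - j) := SetLike.coe_mem _
  refine ⟨g ^ (N + 1), E, c' • m, hE0, hG, ?_, pow_notMem x.1.isPrime hgx _, ?_, ?_⟩
  · rcases hdeg with hi | h0
    · exact ((deg_of_mem hm).smul 𝒜 hc'm).congr (by omega)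
    · exact Or.inl (by rw [show m = 0 from h0, smul_zero])
  · rw [ProjectiveSpectrum.basicOpen_pow 𝒜 g (N + 1) N.succ_pos]; exact hgf
  · intro y hy
    have hyg : g ∉ y.1.asHomogeneousIdeal := fun h => hy (y.1.asHomogeneousIdeal.toIdeal.pow_mem_of_mem h _ N.succ_pos)
    refine (hval ⟨y.1, hgsub y.1 hyg⟩).trans ?_
    rw [LocalizedModule.mk_eq]
    refine ⟨1, ?_⟩
    simp only [one_smul, Submonoid.smul_def]
    rw [smul_smul, mul_comm t, hcomp]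

/-- Every section on `D(f)` is a fraction `m / f ^ k`. -/
theorem exists_frac {f : A} {d : ℕ} (hd : 0 < d) (hf : f ∈ 𝒜 d) (n : ℤ)
    (sec : Γ(GrMod.tilde 𝒜 ℳ n, Proj.basicOpen 𝒜 f)) :
    ∃ (k : ℕ) (m : M), Deg ℳ ((k : ℤ) * d + n) m ∧
      ∀ y : Proj.basicOpen 𝒜 f, GrMod.val sec y =
        LocalizedModule.mk m ⟨f ^ k, pow_notMem y.1.isPrime y.2 k⟩ := by
  classical
  choose g e m he hg hm hgx hgf hval using exists_local_frac 𝒜 ℳ hd hf n sec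
  obtain ⟨F, hF⟩ := (Proj.isAffineOpen_basicOpen 𝒜 f hf hd).isCompact.elim_finite_subcover
    (fun x : Proj.basicOpen 𝒜 f => (ProjectiveSpectrum.basicOpen 𝒜 (g x) : Set (ProjectiveSpectrum 𝒜)))
    (fun _ => (ProjectiveSpectrum.basicOpen 𝒜 _).2)
    (fun x hx => Set.mem_iUnion.mpr ⟨⟨x, hx⟩, hgx ⟨x, hx⟩⟩)
  -- agreement on overlaps
  have hagree : ∀ a b : F, ∃ N : ℕ, (g a * g b) ^ N • (g b • m a - g a • m b) = 0 := by
    intro a b
    refine exists_pow_smul_eq_zero_of_mk 𝒜 (Nat.add_pos_left (he a) (e b))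
      (SetLike.mul_mem_graded (hg a) (hg b)) (z := (e a : ℤ) + e b + n)
      ((((hm a).smul 𝒜 (hg b)).congr (by ring)).sub (((hm b).smul 𝒜 (hg a)).congr (by ring))) ?_
    intro y hy
    have hya : g a ∉ y.asHomogeneousIdeal := fun h => hy (y.asHomogeneousIdeal.toIdeal.mul_mem_right _ h)
    have hyb : g b ∉ y.asHomogeneousIdeal := fun h => hy (y.asHomogeneousIdeal.toIdeal.mul_mem_left _ h)
    have h1 := (hval a ⟨y, hgf a hya⟩ hya).symm.trans (hval b ⟨y, hgf a hya⟩ hyb)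
    refine ⟨1, ?_⟩
    rw [LocalizedModule.mk_eq] at h1
    obtain ⟨u, hu⟩ := h1
    refine (mk_eq_zero_iff 𝒜 y _ _).mpr ⟨u.1, u.2, ?_⟩
    simp only [Submonoid.smul_def] at hu
    rw [smul_sub, sub_eq_zero]
    exact hu
  choose N hN using hagree
  let N₀ := ∑ a : F, ∑ b : F, N a b
  have hN₀ : ∀ a b : F, (g a * g b) ^ N₀ • (g b • m a - g a • m b) = 0 := by
    intro a b
    have hle : N a b ≤ N₀ :=
      (Finset.single_le_sum (f := fun b => N a b) (fun _ _ => Nat.zero_le _) (Finset.mem_univ b)).trans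
        (Finset.single_le_sum (f := fun a => ∑ b : F, N a b) (fun _ _ => Nat.zero_le _) (Finset.mem_univ a))
    obtain ⟨r, hr⟩ := Nat.exists_eq_add_of_le' hle
    rw [hr, pow_add, mul_smul, hN a b, smul_zero]
  let G : F → A := fun a => g a ^ (N₀ + 1)
  let Mm : F → M := fun a => g a ^ N₀ • m a
  let E : F → ℕ := fun a => (N₀ + 1) * e a
  have hG : ∀ a, G a ∈ 𝒜 (E a) := fun a => pow_mem_deg 𝒜 (hg a) _
  have hMm : ∀ a, Deg ℳ ((E a : ℤ) + n) (Mm a) := fun a =>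
    ((hm a).smul 𝒜 (pow_mem_deg 𝒜 (hg a) N₀)).congr (by simp only [E]; push_cast; ring)
  have hGM : ∀ a b : F, G b • Mm a = G a • Mm b := by
    intro a b
    have := hN₀ a b
    rw [smul_sub, sub_eq_zero, smul_smul, smul_smul] at this
    simp only [G, Mm, smul_smul]
    convert this using 2 <;> ring
  -- partition of a power of `f`
  have hI : (Ideal.span (Set.range G)).IsHomogeneous 𝒜 :=
    Ideal.homogeneous_span 𝒜 _ (by rintro _ ⟨a, rfl⟩; exact ⟨E a, hG a⟩)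
  obtain ⟨k₀, hk₀⟩ := mem_radical_of_forall 𝒜 hI hd hf fun y hy => by
    obtain ⟨a, ha, hya⟩ := Set.mem_iUnion₂.mp (hF (show y ∈ Proj.basicOpen 𝒜 f from hy))
    exact ⟨G ⟨a, ha⟩, Ideal.subset_span ⟨⟨a, ha⟩, rfl⟩, pow_notMem y.isPrime hya _⟩
  obtain ⟨c, hc⟩ := Ideal.mem_span_range_iff_exists_fun.mp hk₀
  let c' : F → A := fun a => if E a ≤ k₀ * d then (decompose 𝒜 (c a) (k₀ * d - E a) : A) else 0
  have hc' : ∑ a, c' a * G a = f ^ k₀ := by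
    conv_rhs => rw [← decompose_of_mem_same 𝒜 (pow_mem_deg 𝒜 hf k₀), ← hc, decompose_sum,
      DirectSum.sum_apply, AddSubmonoidClass.coe_finsetSum]
    refine Finset.sum_congr rfl fun a _ => ?_
    by_cases hle : E a ≤ k₀ * d
    · simp only [c', if_pos hle]
      rw [coe_decompose_mul_of_right_mem_of_le 𝒜 (hG a) hle]
    · simp only [c', if_neg hle, zero_mul]
      rw [coe_decompose_mul_of_right_mem_of_not_le 𝒜 (hG a) hle]
  refine ⟨k₀, ∑ a, c' a • Mm a, Deg.sum _ _ fun a _ => ?_, ?_⟩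
  · by_cases hle : E a ≤ k₀ * d
    · simp only [c', if_pos hle]
      refine ((hMm a).smul 𝒜 (SetLike.coe_mem _)).congr ?_
      rw [Nat.cast_sub hle]; push_cast; ring
    · simp only [c', if_neg hle, zero_smul]
      exact Deg.zero _
  · intro y
    obtain ⟨b, hb, hyb⟩ := Set.mem_iUnion₂.mp (hF y.2)
    refine (hval b y hyb).trans ?_
    rw [LocalizedModule.mk_eq]
    refine ⟨⟨g b ^ N₀, pow_notMem y.1.isPrime hyb N₀⟩, ?_⟩
    simp only [Submonoid.smul_def]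
    have h2 : G (⟨b, hb⟩ : F) • (∑ a, c' a • Mm a) = f ^ k₀ • Mm ⟨b, hb⟩ := by
      rw [Finset.smul_sum, ← hc', Finset.sum_smul]
      refine Finset.sum_congr rfl fun a _ => ?_
      rw [smul_comm, hGM a ⟨b, hb⟩, smul_smul]
    simp only [G, Mm, pow_succ, mul_smul] at h2
    rw [smul_comm (g b ^ N₀) (f ^ k₀)]
    exact h2.symm

/-- A fraction `m / f ^ k` vanishing on `D(f)` has `m` killed by a power of `f`. -/
theorem exists_pow_smul_eq_zero_of_val {f : A} {d : ℕ} (hd : 0 < d) (hf : f ∈ 𝒜 d) {n : ℤ}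
    {U : (Proj 𝒜).Opens} (hU : Proj.basicOpen 𝒜 f ≤ U) (sec : Γ(GrMod.tilde 𝒜 ℳ n, U)) {z : ℤ} {m : M}
    (hm : Deg ℳ z m) (h : ∀ (y : U), f ∉ y.1.asHomogeneousIdeal →
      ∃ s : y.1.asHomogeneousIdeal.toIdeal.primeCompl, GrMod.val sec y = LocalizedModule.mk m s)
    (h0 : (GrMod.tilde 𝒜 ℳ n).presheaf.map (homOfLE hU).op sec = 0) :
    ∃ N : ℕ, f ^ N • m = 0 :=
  exists_pow_smul_eq_zero_of_mk 𝒜 hd hf hm fun x hx => by
    obtain ⟨s, hs⟩ := h ⟨x, hU hx⟩ hx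
    refine ⟨s, hs.symm.trans ?_⟩
    rw [← val_res 𝒜 ℳ (homOfLE hU) sec ⟨x, hx⟩, h0]
    rfl

end Groth.Agent.GrModX
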