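import Groth.Agent.GrModX.Sections
import Mathlib.Topology.Sheaves.LocalPredicate

/-!
The stalks of `M(n)~` are the degree-`n` fractions.
-/

noncomputable section

universe u

open CategoryTheory AlgebraicGeometry TopologicalSpace DirectSum Opposite

namespace Groth.Agent.GrModX

variable {A σ : Type u} [CommRing A] [SetLike σ A] [AddSubgroupClass σ A] (𝒜 : ℕ → σ) [GradedRing 𝒜]
variable {M τ : Type u} [AddCommGroup M] [Module A M] [SetLike τ M] [AddSubgroupClass τ M] (ℳ : ℕ → τ)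
variable [SetLike.GradedSMul 𝒜 ℳ]

lemma one_notMem (x : ProjectiveSpectrum 𝒜) : (1 : A) ∉ x.asHomogeneousIdeal :=
  GrMod.one_nin x

lemma exists_repr_tildeAt (n : ℤ) (x : ProjectiveSpectrum 𝒜) {q : GrMod.LocMod 𝒜 (M := M) x}
    (hq : q ∈ GrMod.tildeAt 𝒜 ℳ n x) :
    ∃ (j : ℕ) (s : A) (_ : s ∈ 𝒜 j) (hsx : s ∉ x.asHomogeneousIdeal) (m : M),
      Deg ℳ ((j : ℤ) + n) m ∧ q = LocalizedModule.mk m ⟨s, hsx⟩ := by
  induction hq using Submodule.span_induction with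
  | mem q h =>
    obtain ⟨i, j, m, s, hs, hij, rfl⟩ := h
    exact ⟨j, s, s.2, hs, m, Or.inr ⟨i, hij, m.2⟩, rfl⟩
  | zero =>
    exact ⟨0, 1, SetLike.GradedOne.one_mem, one_notMem 𝒜 x, 0, Deg.zero _, (LocalizedModule.zero_mk _).symm⟩
  | add q q' _ _ h h' =>
    obtain ⟨j, s, hs, hsx, m, hm, rfl⟩ := h
    obtain ⟨j', t, ht, htx, m', hm', rfl⟩ := h'
    refine ⟨j + j', s * t, SetLike.mul_mem_graded hs ht, fun h => (x.isPrime.mem_or_mem h).elim hsx htx,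
      t • m + s • m', ((hm.smul 𝒜 ht).congr (by push_cast; ring)).add
        ((hm'.smul 𝒜 hs).congr (by push_cast; ring)), ?_⟩
    rw [LocalizedModule.mk_add_mk]
    rfl
  | smul c q _ h =>
    obtain ⟨j, s, hs, hsx, m, hm, rfl⟩ := h
    obtain ⟨⟨e, ⟨a, ha⟩, ⟨b, hb⟩, hbx⟩, rfl⟩ := HomogeneousLocalization.mk_surjective c
    refine ⟨e + j, b * s, SetLike.mul_mem_graded hb hs, fun h => (x.isPrime.mem_or_mem h).elim hbx hsx,
      a • m, (hm.smul 𝒜 ha).congr (by push_cast; ring), ?_⟩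
    rw [GrMod.a0_smul_def, HomogeneousLocalization.val_mk, LocalizedModule.mk_smul_mk]
    rfl

omit [SetLike.GradedSMul 𝒜 ℳ] in
lemma deg_of_pred {n : ℤ} {i j : ℕ} {m : M} (hm : m ∈ ℳ i) (h : (i : ℤ) = j + n ∨ m = 0) :
    Deg ℳ ((j : ℤ) + n) m :=
  h.elim (fun e => Or.inr ⟨i, e, hm⟩) Or.inl

variable [DirectSum.Decomposition ℳ]

theorem stalkToFiber_bijective (n : ℤ) (x : ProjectiveSpectrum 𝒜) :
    Function.Bijective (TopCat.stalkToFiber (GrMod.isLocFrac 𝒜 ℳ n) x) := by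
  classical
  constructor
  · refine TopCat.stalkToFiber_injective _ _ fun U V fU hU fV hV heq => ?_
    obtain ⟨U₁, hxU, iU, i, j, ⟨a, ha⟩, ⟨s, hs⟩, hsn, hda, hva⟩ := hU ⟨x, U.2⟩
    obtain ⟨V₁, hxV, iV, i', j', ⟨b, hb⟩, ⟨t, ht⟩, htn, hdb, hvb⟩ := hV ⟨x, V.2⟩
    have h0 : LocalizedModule.mk a ⟨s, hsn ⟨x, hxU⟩⟩ =
        (LocalizedModule.mk b ⟨t, htn ⟨x, hxV⟩⟩ : GrMod.LocMod 𝒜 (M := M) x) :=
      (hva ⟨x, hxU⟩).symm.trans ((congrArg Subtype.val heq).trans (hvb ⟨x, hxV⟩))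
    obtain ⟨⟨u, hux⟩, hu⟩ := LocalizedModule.mk_eq.mp h0
    simp only [Submonoid.smul_def] at hu
    have hz : Deg ℳ ((j : ℤ) + j' + n) (t • a - s • b) :=
      (((deg_of_pred ℳ ha hda).smul 𝒜 ht).congr (by ring)).sub
        (((deg_of_pred ℳ hb hdb).smul 𝒜 hs).congr (by ring))
    have huz : u • (t • a - s • b) = 0 := by rw [smul_sub, hu, sub_self]
    obtain ⟨e, he⟩ : ∃ e, (decompose 𝒜 u e : A) ∉ x.asHomogeneousIdeal := by
      by_contra! hall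
      exact hux (by rw [← sum_support_decompose 𝒜 u]; exact Ideal.sum_mem _ fun i _ => hall i)
    have hkill := hz.proj_smul_eq_zero 𝒜 huz e
    rw [GradedRing.proj_apply, smul_sub, sub_eq_zero] at hkill
    refine ⟨⟨U₁ ⊓ V₁ ⊓ ProjectiveSpectrum.basicOpen 𝒜 (decompose 𝒜 u e : A), ⟨hxU, hxV⟩, he⟩,
      homOfLE (show _ ≤ U.1 from (inf_le_left.trans inf_le_left).trans iU.le),
      homOfLE (show _ ≤ V.1 from (inf_le_left.trans inf_le_right).trans iV.le), fun y => ?_⟩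
    refine Subtype.ext ?_
    refine (hva ⟨y.1, y.2.1.1⟩).trans (Eq.trans ?_ (hvb ⟨y.1, y.2.1.2⟩).symm)
    refine LocalizedModule.mk_eq.mpr ⟨⟨_, y.2.2⟩, ?_⟩
    simp only [Submonoid.smul_def]
    exact hkill
  · refine TopCat.stalkToFiber_surjective _ _ fun q => ?_
    obtain ⟨j, s, hs, hsx, m, hm, hq⟩ := exists_repr_tildeAt 𝒜 ℳ n x q.2
    exact ⟨⟨ProjectiveSpectrum.basicOpen 𝒜 s, hsx⟩,
      (fracSect 𝒜 ℳ n (Proj.basicOpen 𝒜 s) hs (fun y => y.2) hm :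
        GrMod.sect 𝒜 ℳ n (op (Proj.basicOpen 𝒜 s))).1,
      (fracSect 𝒜 ℳ n (Proj.basicOpen 𝒜 s) hs (fun y => y.2) hm :
        GrMod.sect 𝒜 ℳ n (op (Proj.basicOpen 𝒜 s))).2, Subtype.ext hq.symm⟩

/-- A nonvanishing `f/1` spans the degree-`d` fractions, given one unit fraction of that degree. -/
theorem mem_basicOpen_iff_span_eq_top {d : ℕ} {f : A} (hf : f ∈ 𝒜 d) (x : ProjectiveSpectrum 𝒜)
    (hunit : ∃ (i j : ℕ) (a s : A) (_ : a ∈ 𝒜 i) (_ : s ∈ 𝒜 j), (i : ℤ) = j + d ∧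
      a ∉ x.asHomogeneousIdeal ∧ s ∉ x.asHomogeneousIdeal)
    (q : GrMod.tildeAt 𝒜 𝒜 (d : ℤ) x) (hq : q.1 = LocalizedModule.mk f ⟨1, one_notMem 𝒜 x⟩) :
    x ∈ ProjectiveSpectrum.basicOpen 𝒜 f ↔
      Submodule.span (GrTwist.A0 𝒜 x) {q} = (⊤ : Submodule (GrTwist.A0 𝒜 x) _) := by
  constructor
  · intro hx
    refine eq_top_iff.mpr fun r _ => ?_
    obtain ⟨j, s, hs, hsx, m, hm, hr⟩ := exists_repr_tildeAt 𝒜 𝒜 (d : ℤ) x r.2
    obtain ⟨i, hi, hmi⟩ := hm.exists_mem (by positivity)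
    obtain rfl : i = j + d := by exact_mod_cast hi
    refine Submodule.mem_span_singleton.mpr ⟨HomogeneousLocalization.mk
      ⟨j + d, ⟨m, hmi⟩, ⟨s * f, SetLike.mul_mem_graded hs hf⟩,
        fun h => (x.isPrime.mem_or_mem h).elim hsx hx⟩, Subtype.ext ?_⟩
    rw [Submodule.coe_smul, GrMod.a0_smul_def, HomogeneousLocalization.val_mk, hq,
      LocalizedModule.mk_smul_mk, hr, LocalizedModule.mk_eq]
    refine ⟨1, ?_⟩
    simp only [one_smul, Submonoid.smul_def, smul_eq_mul, Submonoid.coe_mul]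
    ring
  · intro htop
    obtain ⟨i, j, a, s, ha, hs, hij, hax, hsx⟩ := hunit
    have hmem : LocalizedModule.mk a ⟨s, hsx⟩ ∈ GrMod.tildeAt 𝒜 𝒜 (d : ℤ) x :=
      mk_mem_tildeAt 𝒜 𝒜 _ x hs hsx (Or.inr ⟨i, hij, ha⟩)
    obtain ⟨c, hc⟩ := Submodule.mem_span_singleton.mp
      (htop ▸ Submodule.mem_top : (⟨_, hmem⟩ : GrMod.tildeAt 𝒜 𝒜 (d : ℤ) x) ∈ Submodule.span _ {q})
    obtain ⟨⟨e, ⟨b, hb⟩, ⟨t, ht⟩, htx⟩, rfl⟩ := HomogeneousLocalization.mk_surjective c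
    have hc' := congrArg Subtype.val hc
    rw [Submodule.coe_smul, GrMod.a0_smul_def, HomogeneousLocalization.val_mk, hq,
      LocalizedModule.mk_smul_mk, LocalizedModule.mk_eq] at hc'
    obtain ⟨⟨u, hu⟩, hu'⟩ := hc'
    simp only [Submonoid.smul_def, smul_eq_mul, Submonoid.coe_mul, mul_one] at hu'
    intro hfx
    have : u * (t * a) ∈ x.asHomogeneousIdeal.toIdeal := by
      rw [← hu']
      exact Ideal.mul_mem_left _ _ (Ideal.mul_mem_left _ _ (Ideal.mul_mem_left _ _ hfx))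
    exact (x.isPrime.mem_or_mem this).elim hu fun h => (x.isPrime.mem_or_mem h).elim htx hax

end Groth.Agent.GrModX
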